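import Mathlib
import Cfsg.Agent.H989.OutOrth.Forms
set_option linter.all false

/-!
# Outer automorphisms of the orthogonal groups of minus type: explicit semisimilitudes

The anisotropic binary form `z₁² + a z₁ z₂ + b z₂²` is the norm form of the quadratic algebra
`K = F[ω]`, `ω² = -b + a ω`. We construct the Frobenius semisimilitude `Φ` (with `Φ ^ f` a reflection), the
similitudes `δ l : (x, y, k) ↦ (N(l) y, x, l k*)` and `h l : (x, y, k) ↦ (N(l) x, y, l k)`, and the relations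
between them.
-/

set_option autoImplicit false

namespace Cfsg.Agent.H179.OutMinus

open QuadraticMap Cfsg.Agent.LieClassical.OrthCore Cfsg.Agent.LieClassical.OrthTrans
  Cfsg.Agent.LieClassical.OrthSimple Cfsg.Agent.ClassicalGeometry.OrthSemi
  Cfsg.Agent.ClassicalGeometry.OrthSemiCount Cfsg.Agent.ClassicalGeometry.OrthAut1
  Cfsg.Agent.ClassicalGeometry.OrthSemiForms Cfsg.Agent.LieClassical.OrthForms
  Cfsg.Agent.H989.OutOrth.Abstract Cfsg.Agent.H989.OutOrth.Basic Cfsg.Agent.H989.OutOrth.Forms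

variable {F : Type*} [Field F]

/-- The quadratic algebra attached to the binary form. -/
abbrev Kx (F : Type*) [Field F] (a b : F) : Type _ := QuadraticAlgebra F (-b) a

theorem norm_eq {a b : F} (z : Kx F a b) :
    QuadraticAlgebra.norm z = z.re ^ 2 + a * z.re * z.im + b * z.im ^ 2 := by
  rw [QuadraticAlgebra.norm_def]; ring

theorem fact_of {a b : F}
    (hab : ∀ z₁ z₂ : F, z₁ ^ 2 + a * z₁ * z₂ + b * z₂ ^ 2 = 0 → z₁ = 0 ∧ z₂ = 0) :
    Fact (∀ r : F, r ^ 2 ≠ -b + a * r) := ⟨fun r hr => by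
  have := hab (-r) 1 (by linear_combination hr)
  exact one_ne_zero this.2⟩

theorem norm_ne_zero {a b : F}
    (hab : ∀ z₁ z₂ : F, z₁ ^ 2 + a * z₁ * z₂ + b * z₂ ^ 2 = 0 → z₁ = 0 ∧ z₂ = 0) {z : Kx F a b}
    (hz : z ≠ 0) : QuadraticAlgebra.norm z ≠ 0 := by
  intro h
  rw [norm_eq] at h
  obtain ⟨h1, h2⟩ := hab _ _ h
  exact hz (QuadraticAlgebra.ext h1 h2)

/-- The space in coordinates. -/
abbrev W (a b : F) (m : ℕ) : Type _ := (Fin m → F) × (Fin m → F) × Kx F a b

/-- The coordinate isomorphism. -/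
def coordE (a b : F) (m : ℕ) : W a b m ≃ₗ[F] ((Fin m ⊕ Fin m) ⊕ Fin 2 → F) where
  toFun t := Sum.elim (Sum.elim t.1 t.2.1) ![t.2.2.re, t.2.2.im]
  invFun v := (fun i => v (.inl (.inl i)), fun i => v (.inl (.inr i)), ⟨v (.inr 0), v (.inr 1)⟩)
  map_add' s t := by
    funext i
    rcases i with (i | i) | i
    · rfl
    · rfl
    · fin_cases i <;> rfl
  map_smul' c t := by
    funext i
    rcases i with (i | i) | i
    · rfl
    · rfl
    · fin_cases i <;> rfl
  left_inv t := rfl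
  right_inv v := by
    funext i
    rcases i with (i | i) | i
    · rfl
    · rfl
    · fin_cases i <;> rfl

/-- The form in coordinates. -/
def qW {a b : F} {m : ℕ} (t : W a b m) : F :=
  (∑ i : Fin m, t.1 i * t.2.1 i) + QuadraticAlgebra.norm t.2.2

theorem form_coordE {a b : F} {m : ℕ} (t : W a b m) :
    minusForm m F a b (coordE a b m t) = qW t := by
  rw [coe_minusForm, quadFormMinus_apply, qW, norm_eq]
  rfl

/-- A permutation of the coordinate space as a permutation of the standard space. -/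
def perm (a b : F) (m : ℕ) : Equiv.Perm (W a b m) ≃* Equiv.Perm ((Fin m ⊕ Fin m) ⊕ Fin 2 → F) :=
  (coordE a b m).toEquiv.permCongrHom

theorem perm_apply {a b : F} {m : ℕ} (T : Equiv.Perm (W a b m)) (t : W a b m) :
    perm a b m T (coordE a b m t) = coordE a b m (T t) := by
  show (coordE a b m).toEquiv (T ((coordE a b m).toEquiv.symm ((coordE a b m).toEquiv t))) = _
  rw [Equiv.symm_apply_apply]
  rfl

theorem isSS_perm {a b : F} {m : ℕ} {σ : F ≃+* F} {c : F} (hc : c ≠ 0)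
    (T : Equiv.Perm (W a b m)) (hadd : ∀ s t, T (s + t) = T s + T t)
    (hsmul : ∀ (x : F) t, T (x • t) = σ x • T t) (hform : ∀ t, qW (T t) = c * σ (qW t)) :
    IsSS (minusForm m F a b) σ c (perm a b m T) := by
  refine ⟨hc, ?_, ?_, ?_⟩
  · intro u v
    obtain ⟨s, rfl⟩ := (coordE a b m).surjective u
    obtain ⟨t, rfl⟩ := (coordE a b m).surjective v
    rw [← map_add, perm_apply, perm_apply, perm_apply, hadd, map_add]
  · intro x v
    obtain ⟨t, rfl⟩ := (coordE a b m).surjective v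
    rw [← map_smul, perm_apply, perm_apply, hsmul, map_smul]
  · intro v
    obtain ⟨t, rfl⟩ := (coordE a b m).surjective v
    rw [perm_apply, form_coordE, form_coordE, hform]

/-! ### The semilinear maps -/

/-- The permutation `(x, y, k) ↦ (φ x, φ y, ψ k)`. -/
def TΦ {a b : F} {m : ℕ} (φ : RingAut F) (ψ : RingAut (Kx F a b)) : Equiv.Perm (W a b m) where
  toFun t := (fun i => φ (t.1 i), fun i => φ (t.2.1 i), ψ t.2.2)
  invFun t := (fun i => φ.symm (t.1 i), fun i => φ.symm (t.2.1 i), ψ.symm t.2.2)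
  left_inv t := by simp
  right_inv t := by simp

theorem TΦ_pow {a b : F} {m : ℕ} (φ : RingAut F) (ψ : RingAut (Kx F a b)) (k : ℕ) :
    (TΦ φ ψ : Equiv.Perm (W a b m)) ^ k = TΦ (φ ^ k) (ψ ^ k) := by
  induction k with
  | zero => rfl
  | succ k ih => rw [pow_succ, pow_succ, pow_succ, ih]; rfl

theorem isSS_TΦ {a b : F} {m : ℕ} {φ : RingAut F} {ψ : RingAut (Kx F a b)}
    (h1 : ∀ (x : F) z, ψ (x • z) = φ x • ψ z)
    (h2 : ∀ z, QuadraticAlgebra.norm (ψ z) = φ (QuadraticAlgebra.norm z)) :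
    IsSS (minusForm m F a b) φ 1 (perm a b m (TΦ φ ψ)) := by
  refine isSS_perm one_ne_zero _ ?_ ?_ ?_
  · intro s t
    refine Prod.ext (funext fun i => map_add φ _ _) (Prod.ext (funext fun i => map_add φ _ _) ?_)
    exact map_add ψ _ _
  · intro x t
    refine Prod.ext (funext fun i => map_mul φ _ _) (Prod.ext (funext fun i => map_mul φ _ _) ?_)
    exact h1 _ _
  · intro t
    rw [one_mul]
    show (∑ i : Fin m, φ (t.1 i) * φ (t.2.1 i)) + QuadraticAlgebra.norm (ψ t.2.2) =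
      φ ((∑ i : Fin m, t.1 i * t.2.1 i) + QuadraticAlgebra.norm t.2.2)
    rw [h2, map_add, map_sum]
    simp only [map_mul]

/-- The permutation `(x, y, k) ↦ (x, y, k*)`. -/
def Tr (a b : F) (m : ℕ) : Equiv.Perm (W a b m) where
  toFun t := (t.1, t.2.1, star t.2.2)
  invFun t := (t.1, t.2.1, star t.2.2)
  left_inv t := by simp
  right_inv t := by simp

/-- The vector whose reflection is `k ↦ k*`. -/
def v0 (a b : F) (m : ℕ) : (Fin m ⊕ Fin m) ⊕ Fin 2 → F := coordE a b m (0, 0, ⟨-a, 2⟩)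

theorem form_v0 (a b : F) (m : ℕ) : minusForm m F a b (v0 a b m) = 4 * b - a ^ 2 := by
  rw [v0, form_coordE, qW, norm_eq]
  simp only [Pi.zero_apply, mul_zero, Finset.sum_const_zero, zero_add]
  ring

theorem form_v0_ne [Finite F] {a b : F}
    (hab : ∀ z₁ z₂ : F, z₁ ^ 2 + a * z₁ * z₂ + b * z₂ ^ 2 = 0 → z₁ = 0 ∧ z₂ = 0) (m : ℕ) :
    minusForm m F a b (v0 a b m) ≠ 0 := by
  rw [form_v0]
  intro h
  have h1 := binary_nondeg F a b hab (z := -a) (w := 2) (by ring) (by linear_combination h)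
  have h2 := binary_nondeg F a b hab (z := 0) (w := 1)
    (by rw [neg_eq_zero.1 h1.1]; ring) (by rw [h1.2]; ring)
  exact one_ne_zero h2.2

theorem polar_v0 (a b : F) (m : ℕ) (t : W a b m) :
    polar (minusForm m F a b) (v0 a b m) (coordE a b m t) = (4 * b - a ^ 2) * t.2.2.im := by
  rw [polar_minusForm]
  have e1 : ∀ i, v0 a b m (.inl (.inl i)) = 0 := fun i => rfl
  have e2 : ∀ i, v0 a b m (.inl (.inr i)) = 0 := fun i => rfl
  have e3 : v0 a b m (.inr 0) = -a := rfl
  have e4 : v0 a b m (.inr 1) = 2 := rfl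
  have e5 : coordE a b m t (.inr 0) = t.2.2.re := rfl
  have e6 : coordE a b m t (.inr 1) = t.2.2.im := rfl
  simp only [e1, e2, e3, e4, e5, e6, zero_mul, mul_zero, add_zero, Finset.sum_const_zero, zero_add]
  ring

theorem perm_Tr [Finite F] {a b : F}
    (hab : ∀ z₁ z₂ : F, z₁ ^ 2 + a * z₁ * z₂ + b * z₂ ^ 2 = 0 → z₁ = 0 ∧ z₂ = 0) (m : ℕ) :
    perm a b m (Tr a b m) = (rf (v0 a b m) (form_v0_ne hab m)).1 := by
  ext v : 1
  obtain ⟨t, rfl⟩ := (coordE a b m).surjective v
  rw [perm_apply, rf_apply, refl_apply, polar_v0, form_v0]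
  have h := form_v0_ne hab m
  rw [form_v0] at h
  rw [← mul_assoc, inv_mul_cancel₀ h, one_mul, v0, ← map_smul, ← map_sub]
  congr 1
  refine Prod.ext ?_ (Prod.ext ?_ ?_)
  · show t.1 = t.1 - t.2.2.im • (0 : Fin m → F)
    rw [smul_zero, sub_zero]
  · show t.2.1 = t.2.1 - t.2.2.im • (0 : Fin m → F)
    rw [smul_zero, sub_zero]
  · show star t.2.2 = t.2.2 - t.2.2.im • (⟨-a, 2⟩ : Kx F a b)
    apply QuadraticAlgebra.ext
    · show t.2.2.re + a * t.2.2.im = t.2.2.re - t.2.2.im • (-a)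
      rw [smul_eq_mul]; ring
    · show -t.2.2.im = t.2.2.im - t.2.2.im • (2 : F)
      rw [smul_eq_mul]; ring

/-- The permutation `(x, y, k) ↦ (N(l) x, y, l k)`. -/
def Th {a b : F} (m : ℕ) (l : (Kx F a b)ˣ) :
    Equiv.Perm (W a b m) where
  toFun t := (QuadraticAlgebra.norm (l : Kx F a b) • t.1, t.2.1, (l : Kx F a b) * t.2.2)
  invFun t := (QuadraticAlgebra.norm ((l⁻¹ : (Kx F a b)ˣ) : Kx F a b) • t.1, t.2.1,
    ((l⁻¹ : (Kx F a b)ˣ) : Kx F a b) * t.2.2)
  left_inv t := by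
    refine Prod.ext ?_ (Prod.ext rfl ?_)
    · show QuadraticAlgebra.norm ((l⁻¹ : (Kx F a b)ˣ) : Kx F a b) •
        (QuadraticAlgebra.norm (l : Kx F a b) • t.1) = t.1
      rw [smul_smul, ← map_mul, Units.inv_mul, map_one, one_smul]
    · show ((l⁻¹ : (Kx F a b)ˣ) : Kx F a b) * ((l : Kx F a b) * t.2.2) = t.2.2
      rw [Units.inv_mul_cancel_left]
  right_inv t := by
    refine Prod.ext ?_ (Prod.ext rfl ?_)
    · show QuadraticAlgebra.norm (l : Kx F a b) •
        (QuadraticAlgebra.norm ((l⁻¹ : (Kx F a b)ˣ) : Kx F a b) • t.1) = t.1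
      rw [smul_smul, ← map_mul, Units.mul_inv, map_one, one_smul]
    · show (l : Kx F a b) * (((l⁻¹ : (Kx F a b)ˣ) : Kx F a b) * t.2.2) = t.2.2
      rw [Units.mul_inv_cancel_left]

theorem norm_unit_ne_zero {a b : F} (l : (Kx F a b)ˣ) :
    QuadraticAlgebra.norm (l : Kx F a b) ≠ 0 :=
  ((QuadraticAlgebra.isUnit_iff_norm_isUnit).1 l.isUnit).ne_zero

theorem isSS_Th {a b : F} (m : ℕ) (l : (Kx F a b)ˣ) :
    IsSS (minusForm m F a b) (RingEquiv.refl F) (QuadraticAlgebra.norm (l : Kx F a b))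
      (perm a b m (Th m l)) := by
  refine isSS_perm (norm_unit_ne_zero l) _ ?_ ?_ ?_
  · intro s t
    exact Prod.ext (smul_add _ _ _) (Prod.ext rfl (mul_add _ _ _))
  · intro x t
    exact Prod.ext (smul_comm _ _ _) (Prod.ext rfl (mul_smul_comm _ _ _))
  · intro t
    show (∑ i : Fin m, (QuadraticAlgebra.norm (l : Kx F a b) * t.1 i) * t.2.1 i) +
      QuadraticAlgebra.norm ((l : Kx F a b) * t.2.2) =
      QuadraticAlgebra.norm (l : Kx F a b) * ((∑ i : Fin m, t.1 i * t.2.1 i) +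
        QuadraticAlgebra.norm t.2.2)
    rw [map_mul, mul_add, Finset.mul_sum]
    simp only [mul_assoc]

/-- The permutation `(x, y, k) ↦ (N(l) y, x, l k*)`. -/
def Td {a b : F} (m : ℕ) (l : (Kx F a b)ˣ) :
    Equiv.Perm (W a b m) where
  toFun t := (QuadraticAlgebra.norm (l : Kx F a b) • t.2.1, t.1, (l : Kx F a b) * star t.2.2)
  invFun t := (t.2.1, (QuadraticAlgebra.norm (l : Kx F a b))⁻¹ • t.1,
    star (((l⁻¹ : (Kx F a b)ˣ) : Kx F a b) * t.2.2))
  left_inv t := by
    refine Prod.ext rfl (Prod.ext ?_ ?_)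
    · show (QuadraticAlgebra.norm (l : Kx F a b))⁻¹ •
        (QuadraticAlgebra.norm (l : Kx F a b) • t.2.1) = t.2.1
      rw [smul_smul, inv_mul_cancel₀ (norm_unit_ne_zero l), one_smul]
    · show star (((l⁻¹ : (Kx F a b)ˣ) : Kx F a b) * ((l : Kx F a b) * star t.2.2)) = t.2.2
      rw [Units.inv_mul_cancel_left, star_star]
  right_inv t := by
    refine Prod.ext ?_ (Prod.ext rfl ?_)
    · show QuadraticAlgebra.norm (l : Kx F a b) •
        ((QuadraticAlgebra.norm (l : Kx F a b))⁻¹ • t.1) = t.1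
      rw [smul_smul, mul_inv_cancel₀ (norm_unit_ne_zero l), one_smul]
    · show (l : Kx F a b) * star (star (((l⁻¹ : (Kx F a b)ˣ) : Kx F a b) * t.2.2)) = t.2.2
      rw [star_star, Units.mul_inv_cancel_left]

theorem isSS_Td {a b : F} (m : ℕ) (l : (Kx F a b)ˣ) :
    IsSS (minusForm m F a b) (RingEquiv.refl F) (QuadraticAlgebra.norm (l : Kx F a b))
      (perm a b m (Td m l)) := by
  refine isSS_perm (norm_unit_ne_zero l) _ ?_ ?_ ?_
  · intro s t
    refine Prod.ext (smul_add _ _ _) (Prod.ext rfl ?_)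
    show (l : Kx F a b) * star (s.2.2 + t.2.2) = l * star s.2.2 + l * star t.2.2
    rw [star_add, mul_add]
  · intro x t
    refine Prod.ext (smul_comm _ _ _) (Prod.ext rfl ?_)
    show (l : Kx F a b) * star (x • t.2.2) = x • (l * star t.2.2)
    rw [← mul_smul_comm]
    congr 1
    apply QuadraticAlgebra.ext
    · show x * t.2.2.re + a * (x * t.2.2.im) = x * (t.2.2.re + a * t.2.2.im)
      ring
    · show -(x * t.2.2.im) = x * (-t.2.2.im)
      ring
  · intro t
    show (∑ i : Fin m, (QuadraticAlgebra.norm (l : Kx F a b) * t.2.1 i) * t.1 i) +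
      QuadraticAlgebra.norm ((l : Kx F a b) * star t.2.2) =
      QuadraticAlgebra.norm (l : Kx F a b) * ((∑ i : Fin m, t.1 i * t.2.1 i) +
        QuadraticAlgebra.norm t.2.2)
    rw [map_mul, QuadraticAlgebra.norm_star, mul_add, Finset.mul_sum]
    congr 1
    exact Finset.sum_congr rfl fun i _ => by ring

/-! ### Relations -/

theorem Td_mul_self {a b : F} (m : ℕ) (l : (Kx F a b)ˣ) (t : W a b m) :
    Td m l (Td m l t) = QuadraticAlgebra.norm (l : Kx F a b) • t := by
  refine Prod.ext rfl (Prod.ext rfl ?_)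
  show (l : Kx F a b) * star ((l : Kx F a b) * star t.2.2) =
    QuadraticAlgebra.norm (l : Kx F a b) • t.2.2
  rw [star_mul', star_star, ← mul_assoc, ← QuadraticAlgebra.algebraMap_norm_eq_mul_star,
    Algebra.smul_def]

theorem Td_mul {a b : F} (m : ℕ) (k l : (Kx F a b)ˣ) (t : W a b m) :
    Td m k (Td m l t) = QuadraticAlgebra.norm (l : Kx F a b) • Th m (k * l⁻¹) t := by
  refine Prod.ext ?_ (Prod.ext rfl ?_)
  · show QuadraticAlgebra.norm (k : Kx F a b) • t.1 = QuadraticAlgebra.norm (l : Kx F a b) •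
      (QuadraticAlgebra.norm ((k * l⁻¹ : (Kx F a b)ˣ) : Kx F a b) • t.1)
    rw [smul_smul, ← map_mul, ← Units.val_mul, mul_comm l, inv_mul_cancel_right]
  · show (k : Kx F a b) * star ((l : Kx F a b) * star t.2.2) =
      QuadraticAlgebra.norm (l : Kx F a b) • (((k * l⁻¹ : (Kx F a b)ˣ) : Kx F a b) * t.2.2)
    rw [star_mul', star_star, Algebra.smul_def, QuadraticAlgebra.algebraMap_norm_eq_mul_star,
      Units.val_mul]
    calc (k : Kx F a b) * (star (l : Kx F a b) * t.2.2)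
        = ((l : Kx F a b) * ((l⁻¹ : (Kx F a b)ˣ) : Kx F a b)) *
          ((k : Kx F a b) * (star (l : Kx F a b) * t.2.2)) := by
          rw [Units.mul_inv, one_mul]
      _ = _ := by ring

theorem TΦ_Td {a b : F} (m : ℕ) {φ : RingAut F} {ψ : RingAut (Kx F a b)}
    (h2 : ∀ z, QuadraticAlgebra.norm (ψ z) = φ (QuadraticAlgebra.norm z))
    (h3 : ∀ z, ψ (star z) = star (ψ z)) {k l : (Kx F a b)ˣ} (hk : ψ (l : Kx F a b) = k)
    (t : W a b m) : TΦ φ ψ (Td m l t) = Td m k (TΦ φ ψ t) := by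
  refine Prod.ext ?_ (Prod.ext rfl ?_)
  · funext i
    show φ (QuadraticAlgebra.norm (l : Kx F a b) * t.2.1 i) =
      QuadraticAlgebra.norm (k : Kx F a b) * φ (t.2.1 i)
    rw [map_mul, ← h2, hk]
  · show ψ ((l : Kx F a b) * star t.2.2) = (k : Kx F a b) * star (ψ t.2.2)
    rw [map_mul, hk, h3]

/-- `δ l` as an element of `Gam`. -/
def dl {a b : F} (m : ℕ) (l : (Kx F a b)ˣ) : Gam (minusForm m F a b) :=
  ⟨perm a b m (Td m l), _, _, isSS_Td m l⟩

/-- `h l` as an element of `Gam`. -/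
def hl {a b : F} (m : ℕ) (l : (Kx F a b)ˣ) : Gam (minusForm m F a b) :=
  ⟨perm a b m (Th m l), _, _, isSS_Th m l⟩

theorem ext_Gam {a b : F} {m : ℕ} {M N : Gam (minusForm m F a b)}
    (h : ∀ t, M.1 (coordE a b m t) = N.1 (coordE a b m t)) : M = N := by
  apply Subtype.ext
  ext v : 1
  obtain ⟨t, rfl⟩ := (coordE a b m).surjective v
  exact h t

theorem scal_coordE {a b : F} {m : ℕ} (c : Fˣ) (t : W a b m) :
    (scal (minusForm m F a b) c).1 (coordE a b m t) = coordE a b m ((c : F) • t) := by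
  rw [scal_apply, map_smul]

theorem dl_mul_self {a b : F} (m : ℕ) (l : (Kx F a b)ˣ) :
    dl m l * dl m l = scal _ (Units.mk0 _ (norm_unit_ne_zero l)) := by
  apply ext_Gam
  intro t
  rw [scal_coordE]
  show perm a b m (Td m l) (perm a b m (Td m l) (coordE a b m t)) = _
  rw [perm_apply, perm_apply, Td_mul_self]
  rfl

theorem dl_mul {a b : F} (m : ℕ) (k l : (Kx F a b)ˣ) :
    dl m k * dl m l = scal _ (Units.mk0 _ (norm_unit_ne_zero l)) * hl m (k * l⁻¹) := by
  apply ext_Gam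
  intro t
  show perm a b m (Td m k) (perm a b m (Td m l) (coordE a b m t)) =
    (scal (minusForm m F a b) _).1 (perm a b m (Th m (k * l⁻¹)) (coordE a b m t))
  rw [perm_apply, perm_apply, perm_apply, scal_coordE, Td_mul]
  rfl

theorem hl_mul {a b : F} (m : ℕ) (k l : (Kx F a b)ˣ) : hl m (k * l) = hl m k * hl m l := by
  apply ext_Gam
  intro t
  show perm a b m (Th m (k * l)) (coordE a b m t) =
    perm a b m (Th m k) (perm a b m (Th m l) (coordE a b m t))
  rw [perm_apply, perm_apply, perm_apply]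
  congr 1
  refine Prod.ext ?_ (Prod.ext rfl ?_)
  · show QuadraticAlgebra.norm ((k * l : (Kx F a b)ˣ) : Kx F a b) • t.1 =
      QuadraticAlgebra.norm (k : Kx F a b) • (QuadraticAlgebra.norm (l : Kx F a b) • t.1)
    rw [smul_smul, Units.val_mul, map_mul]
  · show ((k * l : (Kx F a b)ˣ) : Kx F a b) * t.2.2 = (k : Kx F a b) * ((l : Kx F a b) * t.2.2)
    rw [Units.val_mul, mul_assoc]

/-- The Frobenius semisimilitude. -/
def Ph {a b : F} (m : ℕ) {φ : RingAut F} {ψ : RingAut (Kx F a b)}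
    (h1 : ∀ (x : F) z, ψ (x • z) = φ x • ψ z)
    (h2 : ∀ z, QuadraticAlgebra.norm (ψ z) = φ (QuadraticAlgebra.norm z)) :
    Gam (minusForm m F a b) := ⟨perm a b m (TΦ φ ψ), _, _, isSS_TΦ h1 h2⟩

theorem Ph_dl {a b : F} (m : ℕ) {φ : RingAut F} {ψ : RingAut (Kx F a b)}
    (h1 : ∀ (x : F) z, ψ (x • z) = φ x • ψ z)
    (h2 : ∀ z, QuadraticAlgebra.norm (ψ z) = φ (QuadraticAlgebra.norm z))
    (h3 : ∀ z, ψ (star z) = star (ψ z)) {k l : (Kx F a b)ˣ} (hk : ψ (l : Kx F a b) = k) :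
    Ph m h1 h2 * dl m l = dl m k * Ph m h1 h2 := by
  apply ext_Gam
  intro t
  show perm a b m (TΦ φ ψ) (perm a b m (Td m l) (coordE a b m t)) =
    perm a b m (Td m k) (perm a b m (TΦ φ ψ) (coordE a b m t))
  rw [perm_apply, perm_apply, perm_apply, perm_apply, TΦ_Td m h2 h3 hk]

/-- The `f`-th power of the Frobenius semisimilitude is a reflection. -/
theorem Ph_pow [Finite F] {a b : F}
    (hab : ∀ z₁ z₂ : F, z₁ ^ 2 + a * z₁ * z₂ + b * z₂ ^ 2 = 0 → z₁ = 0 ∧ z₂ = 0) (m : ℕ)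
    {φ : RingAut F} {ψ : RingAut (Kx F a b)} (h1 : ∀ (x : F) z, ψ (x • z) = φ x • ψ z)
    (h2 : ∀ z, QuadraticAlgebra.norm (ψ z) = φ (QuadraticAlgebra.norm z)) {f : ℕ}
    (hφ : φ ^ f = 1) (hψ : ∀ z, (ψ ^ f) z = star z) :
    Ph m h1 h2 ^ f = rf (v0 a b m) (form_v0_ne hab m) := by
  apply Subtype.ext
  rw [← perm_Tr hab m]
  show perm a b m (TΦ φ ψ) ^ f = _
  rw [← map_pow, TΦ_pow, hφ]
  congr 1
  ext t : 1
  exact Prod.ext rfl (Prod.ext rfl (hψ _))

/-! ### The Frobenius automorphism of `K` -/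

section Frob

variable [Fintype F] {p f : ℕ} [hp : Fact p.Prime]

theorem pow_eq_star (hF : Fintype.card F = p ^ f) {a b : F}
    (hab : ∀ z₁ z₂ : F, z₁ ^ 2 + a * z₁ * z₂ + b * z₂ ^ 2 = 0 → z₁ = 0 ∧ z₂ = 0)
    (z : Kx F a b) : z ^ p ^ f = star z := by
  have hfact := fact_of hab
  have hchar : CharP F p := charP_of_card hF
  have hcharK : CharP (Kx F a b) p :=
    charP_of_injective_algebraMap (algebraMap F (Kx F a b)).injective p
  have hfinK : Finite (Kx F a b) := Finite.of_equiv _ (QuadraticAlgebra.equivProd (-b) a).symm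
  have hfinK' : Fintype (Kx F a b) := Fintype.ofFinite _
  have hcardK : Fintype.card (Kx F a b) = p ^ f * p ^ f := by
    rw [← Nat.card_eq_fintype_card, Nat.card_congr (QuadraticAlgebra.equivProd (-b) a),
      Nat.card_prod, Nat.card_eq_fintype_card, hF]
  have hone : 1 < p ^ f := by rw [← hF]; exact Fintype.one_lt_card
  have hfix : ∀ x : F, (algebraMap F (Kx F a b) x) ^ p ^ f = algebraMap F (Kx F a b) x := by
    intro x
    rw [← map_pow, ← hF, FiniteField.pow_card]
  have hz : ∀ z : Kx F a b, z = algebraMap F (Kx F a b) z.re +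
      algebraMap F (Kx F a b) z.im * QuadraticAlgebra.omega := by
    intro z
    apply QuadraticAlgebra.ext <;> simp
  have hpow : ∀ z : Kx F a b, z ^ p ^ f = algebraMap F (Kx F a b) z.re +
      algebraMap F (Kx F a b) z.im * (QuadraticAlgebra.omega : Kx F a b) ^ p ^ f := by
    intro z
    conv_lhs => rw [hz z]
    rw [add_pow_char_pow, mul_pow, hfix, hfix]
  have hω : (QuadraticAlgebra.omega : Kx F a b) ^ p ^ f ≠ QuadraticAlgebra.omega := by
    intro h
    have hall : ∀ z : Kx F a b, z ^ p ^ f = z := by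
      intro z
      rw [hpow, h, ← hz]
    classical
    have h8 : (Polynomial.X ^ p ^ f - Polynomial.X : Polynomial (Kx F a b)) ≠ 0 :=
      FiniteField.X_pow_card_sub_X_ne_zero _ hone
    have h9 : (Finset.univ : Finset (Kx F a b)) ⊆
        (Polynomial.X ^ p ^ f - Polynomial.X : Polynomial (Kx F a b)).roots.toFinset := by
      intro x _
      rw [Multiset.mem_toFinset, Polynomial.mem_roots h8, Polynomial.IsRoot.def]
      simp [hall x]
    have h10 : Fintype.card (Kx F a b) ≤ p ^ f :=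
      calc Fintype.card (Kx F a b) = (Finset.univ : Finset (Kx F a b)).card := rfl
        _ ≤ _ := Finset.card_le_card h9
        _ ≤ _ := Multiset.toFinset_card_le _
        _ ≤ _ := Polynomial.card_roots' _
        _ = _ := FiniteField.X_pow_card_sub_X_natDegree_eq _ hone
    rw [hcardK] at h10
    nlinarith
  have hω2 : ((QuadraticAlgebra.omega : Kx F a b) ^ p ^ f - QuadraticAlgebra.omega) *
      ((QuadraticAlgebra.omega : Kx F a b) ^ p ^ f - star QuadraticAlgebra.omega) = 0 := by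
    have e1 : (QuadraticAlgebra.omega : Kx F a b) * QuadraticAlgebra.omega =
        algebraMap F (Kx F a b) (-b) + algebraMap F (Kx F a b) a * QuadraticAlgebra.omega :=
      QuadraticAlgebra.omega_mul_omega_eq_algebraMap
    have e2 : (QuadraticAlgebra.omega : Kx F a b) + star QuadraticAlgebra.omega =
        algebraMap F (Kx F a b) a := by
      apply QuadraticAlgebra.ext <;> simp
    have e3 : (QuadraticAlgebra.omega : Kx F a b) * star QuadraticAlgebra.omega =
        algebraMap F (Kx F a b) b := by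
      apply QuadraticAlgebra.ext <;> simp
    have e4 : ((QuadraticAlgebra.omega : Kx F a b) * QuadraticAlgebra.omega) ^ p ^ f =
        (algebraMap F (Kx F a b) (-b) +
          algebraMap F (Kx F a b) a * QuadraticAlgebra.omega) ^ p ^ f := by rw [e1]
    rw [mul_pow, add_pow_char_pow, mul_pow, hfix, hfix] at e4
    rw [map_neg] at e4
    linear_combination e4 - (QuadraticAlgebra.omega : Kx F a b) ^ p ^ f * e2 + e3
  have hω3 : (QuadraticAlgebra.omega : Kx F a b) ^ p ^ f = star QuadraticAlgebra.omega := by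
    rcases mul_eq_zero.1 hω2 with h | h
    · exact absurd (sub_eq_zero.1 h) hω
    · exact sub_eq_zero.1 h
  rw [hpow, hω3]
  apply QuadraticAlgebra.ext
  · simp [mul_comm]
  · simp

theorem exists_frobK (hF : Fintype.card F = p ^ f) {a b : F}
    (hab : ∀ z₁ z₂ : F, z₁ ^ 2 + a * z₁ * z₂ + b * z₂ ^ 2 = 0 → z₁ = 0 ∧ z₂ = 0)
    {φ : RingAut F} (hφ : ∀ x, φ x = x ^ p) :
    ∃ ψ : RingAut (Kx F a b), (∀ z, ψ z = z ^ p) ∧ (∀ (x : F) z, ψ (x • z) = φ x • ψ z) ∧
      (∀ z, QuadraticAlgebra.norm (ψ z) = φ (QuadraticAlgebra.norm z)) ∧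
      (∀ z, ψ (star z) = star (ψ z)) ∧ ∀ z, (ψ ^ f) z = star z := by
  have hfact := fact_of hab
  have hchar : CharP F p := charP_of_card hF
  have hcharK : CharP (Kx F a b) p :=
    charP_of_injective_algebraMap (algebraMap F (Kx F a b)).injective p
  have hfinK : Finite (Kx F a b) := Finite.of_equiv _ (QuadraticAlgebra.equivProd (-b) a).symm
  let ψ : RingAut (Kx F a b) := frobeniusEquiv (Kx F a b) p
  have h1 : ∀ z, ψ z = z ^ p := fun x => by
    show frobeniusEquiv (Kx F a b) p x = x ^ p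
    rw [frobeniusEquiv_apply, frobenius_def]
  have hpow : ∀ (k : ℕ) (x : Kx F a b), (ψ ^ k) x = x ^ p ^ k := by
    intro k
    induction k with
    | zero => intro x; rw [pow_zero, pow_zero, pow_one]; rfl
    | succ k ih =>
      intro x
      rw [pow_succ]
      show (ψ ^ k) (ψ x) = _
      rw [ih, h1, ← pow_mul, pow_succ, mul_comm]
  refine ⟨ψ, h1, ?_, ?_, ?_, ?_⟩
  · intro x z
    rw [h1, h1, hφ, smul_pow]
  · intro z
    rw [h1, map_pow, hφ]
  · intro z
    rw [h1, h1, star_pow]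
  · intro z
    rw [hpow, pow_eq_star hF hab]

end Frob

end Cfsg.Agent.H179.OutMinus
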