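import Cfsg.Agent.H413.JOneLocal
import Cfsg.Agent.SporadicB.J1.Fast
import Mathlib
import Cfsg.Agent.H856.Tri
import Cfsg.Agent.H1.TJ1
import Cfsg.Agent.H659.AcIrr
import Cfsg.Agent.Prune
set_option linter.all false

section
prune_inst 0x7ffdecfffbfcfddfffff7e7faededffdf9bbbfffe6dff9cbffe063ff8b9f5f82c9e5fbad8febd3fe1ef7ea3c90fe7b53fffffeffe86ff87ffffdbff41ffbff8ffdf7350c71f4ac3e0fbc6ff783f0778e7f3fffffffffffffffffffffffffffbeffbfffffffff

-- part: H179/JoneB
section
set_option linter.all false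
open scoped Cfsg.Agent.FastGrp

-- part: H179/JoneA
section
/-!
# `J₁`: the monomial frame `2³:7:3` and an involution of `7:6` (helper179)

Elements of the explicit group: `x` (the 7-cycle), `d` (a diagonal involution), `y` (the permutation `i ↦ 2 i`), `w` (an
involution inverting `x`, commuting with `y`), and the relations between them.
-/

set_option autoImplicit false

namespace Cfsg.Agent.H179.JOne

open Cfsg.Agent.SporadicB.J1.Mat Cfsg.Agent.SporadicB.J1.Data Cfsg.Agent.SporadicB.J1.Main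
open Cfsg.Spor (jankoX jankoY J1)

def x : J1 := ev [0]
def d : J1 := ev [0, 0, 1, 0, 3, 2]
def w : J1 := ev [1, 0, 3, 0, 0, 0, 1, 0]
def y : J1 := ev [0, 3, 3, 2, 1, 0, 1, 0, 1, 1, 0, 3, 2, 3, 2, 3]

theorem x_eq : x = X := by
  change X * 1 = X
  rw [mul_one]

/-- words in `x, d, w, x⁻¹, y` -/
def wd : List Nat → List Nat
  | [] => []
  | 0 :: l => [0] ++ wd l
  | 1 :: l => [0, 0, 1, 0, 3, 2] ++ wd l
  | 2 :: l => [1, 0, 3, 0, 0, 0, 1, 0] ++ wd l
  | 3 :: l => [2] ++ wd l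
  | _ :: l => [0, 3, 3, 2, 1, 0, 1, 0, 1, 1, 0, 3, 2, 3, 2, 3] ++ wd l

theorem ev_append (l m : List Nat) : ev (l ++ m) = ev l * ev m := by
  induction l with
  | nil => exact (one_mul _).symm
  | cons a l ih =>
    rw [List.cons_append]
    rcases a with _ | _ | _ | a
    · change X * ev (l ++ m) = X * ev l * ev m
      rw [ih, mul_assoc]
    · change Y * ev (l ++ m) = Y * ev l * ev m
      rw [ih, mul_assoc]
    · change X⁻¹ * ev (l ++ m) = X⁻¹ * ev l * ev m
      rw [ih, mul_assoc]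
    · change Y⁻¹ * ev (l ++ m) = Y⁻¹ * ev l * ev m
      rw [ih, mul_assoc]

/-- evaluation of words in `x, d, w, x⁻¹, y` -/
def ew : List Nat → J1
  | [] => 1
  | 0 :: l => x * ew l
  | 1 :: l => d * ew l
  | 2 :: l => w * ew l
  | 3 :: l => x⁻¹ * ew l
  | _ :: l => y * ew l

theorem ew_eq : ∀ l : List Nat, ew l = ev (wd l)
  | [] => rfl
  | 0 :: l => by
    change x * ew l = ev ([0] ++ wd l)
    rw [ev_append, ew_eq l]
    rfl
  | 1 :: l => by
    change d * ew l = ev ([0, 0, 1, 0, 3, 2] ++ wd l)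
    rw [ev_append, ew_eq l]
    rfl
  | 2 :: l => by
    change w * ew l = ev ([1, 0, 3, 0, 0, 0, 1, 0] ++ wd l)
    rw [ev_append, ew_eq l]
    rfl
  | 3 :: l => by
    change x⁻¹ * ew l = ev ([2] ++ wd l)
    rw [ev_append, ew_eq l, x_eq]
    change X⁻¹ * _ = X⁻¹ * 1 * _
    rw [mul_one]
  | (_ + 4) :: l => by
    change y * ew l = ev ([0, 3, 3, 2, 1, 0, 1, 0, 1, 1, 0, 3, 2, 3, 2, 3] ++ wd l)
    rw [ev_append, ew_eq l]
    rfl

/-- **checking a relation** -/
theorem ew_rel {l m : List Nat} (h : evC (wd l) = evC (wd m)) : ew l = ew m := by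
  rw [ew_eq, ew_eq]
  exact (rep_ev _).eq (rep_ev _) h

theorem ew_ne {l m : List Nat} (h : diffC (evC (wd l)) (evC (wd m)) = true) : ew l ≠ ew m := by
  rw [ew_eq, ew_eq]
  exact (rep_ev _).ne (rep_ev _) h

theorem x7 : ew [0, 0, 0, 0, 0, 0, 0] = ew [] := ew_rel (by rw [Cfsg.Agent.SporadicB.J1.Fast.evC_fun]; decide +kernel)
theorem ww : ew [2, 2] = ew [] := ew_rel (by rw [Cfsg.Agent.SporadicB.J1.Fast.evC_fun]; decide +kernel)
theorem yx : ew [4, 0] = ew [0, 0, 0, 0, 4] := ew_rel (by rw [Cfsg.Agent.SporadicB.J1.Fast.evC_fun]; decide +kernel)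
theorem wx : ew [2, 0, 2] = ew [3] := ew_rel (by rw [Cfsg.Agent.SporadicB.J1.Fast.evC_fun]; decide +kernel)
theorem wy : ew [2, 4] = ew [4, 2] := ew_rel (by rw [Cfsg.Agent.SporadicB.J1.Fast.evC_fun]; decide +kernel)
/-- `Y` -/
theorem Y_eq : ew [0, 1, 3, 1, 3, 2] = Y := by
  rw [ew_eq]
  have h : Y = ev [1] := by
    change Y = Y * 1
    rw [mul_one]
  rw [h]
  exact (rep_ev _).eq (rep_ev _) (by rw [Cfsg.Agent.SporadicB.J1.Fast.evC_fun]; decide +kernel)

theorem d_ne : ew [1] ≠ ew [] := ew_ne (by decide +kernel)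

/-- **generation** -/
theorem closure_eq_top {K : Subgroup J1} (hx : x ∈ K) (hd : d ∈ K) (hw : w ∈ K) : K = ⊤ := by
  have hX : X ∈ K := by rw [← x_eq]; exact hx
  have hY : Y ∈ K := by
    rw [← Y_eq]
    change x * (d * (x⁻¹ * (d * (x⁻¹ * (w * 1))))) ∈ K
    exact mul_mem hx (mul_mem hd (mul_mem (inv_mem hx) (mul_mem hd (mul_mem (inv_mem hx) (mul_mem hw (one_mem _))))))
  have h1 : (Subgroup.closure {jankoX, jankoY}) ≤ K.map J1.subtype := by
    rw [Subgroup.closure_le]
    rintro g (rfl | rfl)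
    · exact ⟨X, hX, rfl⟩
    · exact ⟨Y, hY, rfl⟩
  rw [eq_top_iff]
  rintro ⟨g, hg⟩ -
  obtain ⟨k, hk, hkg⟩ := h1 hg
  have h2 : k = ⟨g, hg⟩ := Subtype.ext hkg
  rwa [← h2]

end Cfsg.Agent.H179.JOne
end

-- part: H179/JoneB
section
/-!
# `J₁`: the frame of `2³` in a representation (helper179)

`R : J₁ →* End V` over a field with `2 ≠ 0`. `V0 R` = fixed vectors of `E = 2³`, `L0 R` = a weight space; `dim V = dim V0 + 7 dim L0`.
-/

set_option autoImplicit false
set_option linter.unusedSectionVars false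

namespace Cfsg.Agent.H179.JOne

open Cfsg.Agent.SporadicB.J1.Mat Cfsg.Agent.SporadicB.J1.Data Cfsg.Agent.SporadicB.J1.Main
open Cfsg.Spor (jankoX jankoY J1)

/-- `x ^ k d x ^ -k` as a word -/
def wD (k : ℕ) : List Nat := List.replicate k 0 ++ (1 :: List.replicate k 3)

/-- the elements of `2³` -/
def D (i : Fin 7) : J1 := ew (wD i.val)

/-- the third point of a line -/
def th (m i : Fin 7) : Fin 7 := m + ![0, 3, 6, 1, 5, 4, 2] (i - m)

theorem ew_append (l m : List Nat) : ew (l ++ m) = ew l * ew m := by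
  induction l with
  | nil => exact (one_mul _).symm
  | cons a l ih =>
    rw [List.cons_append]
    rcases a with _ | _ | _ | _ | a
    · change x * ew (l ++ m) = x * ew l * ew m
      rw [ih, mul_assoc]
    · change d * ew (l ++ m) = d * ew l * ew m
      rw [ih, mul_assoc]
    · change w * ew (l ++ m) = w * ew l * ew m
      rw [ih, mul_assoc]
    · change x⁻¹ * ew (l ++ m) = x⁻¹ * ew l * ew m
      rw [ih, mul_assoc]
    · change y * ew (l ++ m) = y * ew l * ew m
      rw [ih, mul_assoc]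

theorem D_mul (m i : Fin 7) (h : i ≠ m) : D m * D i = D (th m i) := by
  rw [D, D, D, ← ew_append]
  apply ew_rel
  rw [Cfsg.Agent.SporadicB.J1.Fast.evC_fun]
  revert m i
  decide +kernel

theorem D_sq (m : Fin 7) : D m * D m = 1 := by
  rw [D, ← ew_append]
  change _ = ew []
  apply ew_rel
  rw [Cfsg.Agent.SporadicB.J1.Fast.evC_fun]
  revert m
  decide +kernel

private theorem ew0 (l : List Nat) : ew (0 :: l) = x * ew l := by rw [ew]

private theorem ew4 (l : List Nat) : ew (4 :: l) = y * ew l := by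
  generalize h : 0 = n
  have h4 : 4 = n + 4 := by rw [← h]
  rw [h4]
  rfl

private theorem ewn : ew [] = 1 := by rw [ew]

theorem x_D (i : Fin 7) : x * D i = D (i + 1) * x := by
  have h1 : x * D i = ew ([0] ++ wD i.val) := by
    rw [ew_append, ew0, ewn, mul_one, D]
  have h2 : D (i + 1) * x = ew (wD (i + 1).val ++ [0]) := by
    rw [ew_append, ew0, ewn, mul_one, D]
  rw [h1, h2]
  clear h1 h2
  apply ew_rel
  rw [Cfsg.Agent.SporadicB.J1.Fast.evC_fun]
  revert i
  decide +kernel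

theorem y_D (i : Fin 7) : y * D (2 * i) = D i * y := by
  have h1 : y * D (2 * i) = ew ([4] ++ wD (2 * i).val) := by
    rw [ew_append, ew4, ewn, mul_one, D]
  have h2 : D i * y = ew (wD i.val ++ [4]) := by
    rw [ew_append, ew4, ewn, mul_one, D]
  rw [h1, h2]
  clear h1 h2
  apply ew_rel
  rw [Cfsg.Agent.SporadicB.J1.Fast.evC_fun]
  revert i
  decide +kernel

end Cfsg.Agent.H179.JOne
end

private theorem dce_be7d39516e80 : _root_.True := by
  try have : _root_.True := by simp only [_root_.Cfsg.Agent.H179.JOne.D.eq_1]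
  exact _root_.True.intro
end

-- part: H179/JoneL
section
prune_inst 0x200000000000000000000000000000200000000000000000000000000000000000000000000000000000000000000000000000000000000000000000000000000000000000000000000000000000000000000000000000000000000000000000000000000
set_option linter.all false
open scoped Cfsg.Agent.FastGrp

-- part: H179/JoneC
section
/-!
# `J₁`: weight spaces of `2³` (helper179)
-/

set_option autoImplicit false
set_option linter.unusedSectionVars false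

namespace Cfsg.Agent.H179.JOne

open Cfsg.Spor (jankoX jankoY J1)

section
variable {k : Type*} [Field k] {V : Type*} [AddCommGroup V] [Module k V] (R : J1 →* Module.End k V)

/-- the signs -/
def s (k : Type*) [Field k] (i : Fin 7) : k := ![-1, 1, 1, -1, 1, -1, -1] i

/-- fixed vectors of `2³` -/
def V0 : Submodule k V where
  carrier := {v | ∀ i, R (D i) v = v}
  add_mem' := fun ha hb i => by rw [map_add, ha i, hb i]
  zero_mem' := fun i => map_zero _
  smul_mem' := fun c v hv i => by rw [map_smul, hv i]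

/-- the weight space of the `y`-invariant character -/
def L0 : Submodule k V where
  carrier := {v | ∀ i, R (D i) v = s k i • v}
  add_mem' := fun ha hb i => by rw [map_add, ha i, hb i, smul_add]
  zero_mem' := fun i => by rw [map_zero, smul_zero]
  smul_mem' := fun c v hv i => by rw [map_smul, hv i, smul_comm]

variable {R}

theorem mem_V0 {v : V} : v ∈ V0 R ↔ ∀ i, R (D i) v = v := Iff.rfl
theorem mem_L0 {v : V} : v ∈ L0 R ↔ ∀ i, R (D i) v = s k i • v := Iff.rfl

theorem R_mul (g h : J1) (v : V) : R (g * h) v = R g (R h v) := by rw [map_mul]; rfl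

theorem R_inv (g : J1) (v : V) : R g⁻¹ (R g v) = v := by
  rw [← R_mul, inv_mul_cancel, map_one]; rfl

theorem DD (m i : Fin 7) (h : i ≠ m) (v : V) : R (D m) (R (D i) v) = R (D (th m i)) v := by
  rw [← R_mul, D_mul m i h]

theorem DD' (m : Fin 7) (v : V) : R (D m) (R (D m) v) = v := by
  rw [← R_mul, D_sq, map_one]; rfl

variable (R)

/-- `8 ×` the projection onto `L0` -/
def A (v : V) : V := v + ∑ i, s k i • R (D i) v

/-- `8 ×` the projection onto `V0` -/
def B (v : V) : V := v + ∑ i, R (D i) v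

variable {R}

theorem A_mem (v : V) : A R v ∈ L0 R := by
  intro m
  unfold A
  rw [map_add, map_sum]
  simp only [map_smul]
  fin_cases m <;>
  · simp only [Fin.sum_univ_seven, Fin.isValue, Fin.mk_zero', Fin.mk_one, Fin.reduceFinMk, DD', s]
    repeat rw [DD _ _ (by decide)]
    simp only [th, _root_.Fin.isValue, _root_.Nat.succ_eq_add_one, _root_.Nat.reduceAdd, _root_.Matrix.cons_val_zero, _root_.neg_smul, _root_.one_smul, _root_.Matrix.cons_val_one, _root_.Cfsg.Agent.H179.JOne.th, _root_.sub_zero, _root_.zero_add, _root_.Matrix.cons_val, _root_.smul_add, _root_.smul_neg, _root_.neg_neg, _root_.zero_sub, _root_.Fin.reduceAdd, _root_.Fin.reduceSub]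
    abel

theorem B_mem (v : V) : B R v ∈ V0 R := by
  intro m
  unfold B
  rw [map_add, map_sum]
  fin_cases m <;>
  · simp only [Fin.sum_univ_seven, Fin.isValue, Fin.mk_zero', Fin.mk_one, Fin.reduceFinMk, DD']
    repeat rw [DD _ _ (by decide)]
    simp only [th, _root_.Fin.isValue, _root_.Cfsg.Agent.H179.JOne.th, _root_.Nat.succ_eq_add_one, _root_.Nat.reduceAdd, _root_.sub_zero, _root_.Matrix.cons_val_one, _root_.Matrix.cons_val_zero, _root_.zero_add, _root_.Matrix.cons_val, _root_.zero_sub, _root_.Fin.reduceAdd, _root_.Fin.reduceSub]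
    abel

theorem D_x (n : ℕ) (i : Fin 7) : x ^ n * D i = D (i + Fin.ofNat 7 n) * x ^ n := by
  induction n with
  | zero =>
    have h : i + Fin.ofNat 7 0 = i := add_zero i
    rw [h, pow_zero, one_mul, mul_one]
  | succ n ih =>
    have h : i + Fin.ofNat 7 (n + 1) = i + Fin.ofNat 7 n + 1 := by
      apply Fin.ext
      simp [Fin.val_add, Fin.ofNat]
      omega
    rw [pow_succ', mul_assoc, ih, ← mul_assoc, x_D, mul_assoc, h]

theorem D_xj (j i : Fin 7) : x ^ j.val * D i = D (i + j) * x ^ j.val := by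
  have h := D_x j.val i
  have h1 : Fin.ofNat 7 j.val = j := by
    apply Fin.ext
    simp [Fin.ofNat, Nat.mod_eq_of_lt j.2]
  rwa [h1] at h

theorem D_xi (j i : Fin 7) : D i * (x ^ j.val)⁻¹ = (x ^ j.val)⁻¹ * D (i + j) := by
  have h := D_xj j i
  rw [eq_inv_mul_iff_mul_eq, ← mul_assoc, h, mul_assoc, mul_inv_cancel, mul_one]

theorem D_shift (j i : Fin 7) (v : V) : R (D i) (R (x ^ j.val)⁻¹ v) = R (x ^ j.val)⁻¹ (R (D (i + j)) v) := by
  rw [← R_mul, D_xi, R_mul]

/-- the `j`-th shift of a vector -/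
def sh (R : J1 →* Module.End k V) (j : Fin 7) (u : V) : V := R (x ^ j.val)⁻¹ u

theorem D_sh {u : V} (hu : u ∈ L0 R) (i j : Fin 7) : R (D i) (sh R j u) = s k (i + j) • sh R j u := by
  rw [sh, D_shift, hu (i + j), map_smul]

theorem sum_s : (1 : k) + ∑ i, s k i = 0 := by
  simp [Fin.sum_univ_seven, s]

theorem sum_s_shift (i : Fin 7) : ∑ j, s k (i + j) = -1 := by
  (revert i; simp only [Fin.sum_univ_seven, s, _root_.Fin.forall_fin_succ, _root_.Nat.succ_eq_add_one, Nat.reduceAdd, Fin.isValue, _root_.add_zero, _root_.Matrix.cons_val_zero, _root_.zero_add, _root_.Matrix.cons_val_one, _root_.neg_add_cancel, _root_.Matrix.cons_val, _root_.add_neg_cancel, _root_.Matrix.cons_val_succ, _root_.Fin.succ_zero_eq_one, Fin.reduceAdd, _root_.add_neg_cancel_right, _root_.Fin.succ_one_eq_two, _root_.neg_add_cancel_right, Fin.reduceSucc, _root_.Matrix.cons_val_fin_one, _root_.IsEmpty.forall_iff, _root_.and_self])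

theorem sum_ss (j : Fin 7) (hj : j ≠ 0) : (1 : k) + ∑ i, s k i * s k (i + j) = 0 := by
  revert hj
  fin_cases j <;> intro hj <;> first | (exfalso; exact hj rfl) | (simp only [Fin.sum_univ_seven, s, _root_.Cfsg.Agent.H179.JOne.s, _root_.Nat.succ_eq_add_one, _root_.Nat.reduceAdd, _root_.Fin.mk_one, _root_.Fin.isValue, _root_.Fin.sum_univ_seven, _root_.Matrix.cons_val_zero, _root_.zero_add, _root_.Matrix.cons_val_one, _root_.mul_one, _root_.Fin.reduceAdd, _root_.Matrix.cons_val, _root_.neg_add_cancel, _root_.mul_neg, _root_.neg_neg, _root_.neg_add_cancel_right, _root_.add_neg_cancel, _root_.Fin.reduceFinMk, _root_.add_neg_cancel_right])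

theorem sum_sq : (1 : k) + ∑ i, s k i * s k i = 8 := by
  simp only [Fin.sum_univ_seven, s, _root_.Cfsg.Agent.H179.JOne.s, _root_.Nat.succ_eq_add_one, _root_.Nat.reduceAdd, _root_.Fin.sum_univ_seven, _root_.Fin.isValue, _root_.Matrix.cons_val_zero, _root_.mul_neg, _root_.mul_one, _root_.neg_neg, _root_.Matrix.cons_val_one, _root_.Matrix.cons_val]
  norm_num

theorem A_V0 {v : V} (hv : v ∈ V0 R) : A R v = 0 := by
  unfold A
  simp only [mem_V0.1 hv]
  rw [← Finset.sum_smul]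
  nth_rewrite 1 [← one_smul k v]
  rw [← add_smul, sum_s, zero_smul]

theorem A_L0 {v : V} (hv : v ∈ L0 R) : A R v = (8 : k) • v := by
  unfold A
  simp only [mem_L0.1 hv, smul_smul]
  rw [← Finset.sum_smul]
  nth_rewrite 1 [← one_smul k v]
  rw [← add_smul, sum_sq]

theorem A_sh {v : V} (hv : v ∈ L0 R) {j : Fin 7} (hj : j ≠ 0) : A R (sh R j v) = 0 := by
  unfold A
  simp only [D_sh hv, smul_smul]
  rw [← Finset.sum_smul]
  nth_rewrite 1 [← one_smul k (sh R j v)]
  rw [← add_smul, sum_ss j hj, zero_smul]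

theorem B_V0 {v : V} (hv : v ∈ V0 R) : B R v = (8 : k) • v := by
  unfold B
  simp only [mem_V0.1 hv]
  rw [Finset.sum_const, Finset.card_univ, Fintype.card_fin, ← Nat.cast_smul_eq_nsmul k]
  nth_rewrite 1 [← one_smul k v]
  rw [← add_smul]
  norm_num

theorem B_sh {v : V} (hv : v ∈ L0 R) (j : Fin 7) : B R (sh R j v) = 0 := by
  unfold B
  simp only [D_sh hv]
  rw [← Finset.sum_smul]
  nth_rewrite 1 [← one_smul k (sh R j v)]
  have h : ∑ i, s k (i + j) = -1 := by
    rw [← sum_s_shift j]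
    exact Finset.sum_congr rfl fun i _ => by rw [add_comm]
  rw [← add_smul, h, add_neg_cancel, zero_smul]

theorem A_add (v v' : V) : A R (v + v') = A R v + A R v' := by
  unfold A
  simp only [map_add, smul_add, Finset.sum_add_distrib]
  abel

theorem A_smul (c : k) (v : V) : A R (c • v) = c • A R v := by
  unfold A
  simp only [map_smul, smul_add, Finset.smul_sum]
  congr 1
  exact Finset.sum_congr rfl fun i _ => smul_comm _ _ _

theorem B_add (v v' : V) : B R (v + v') = B R v + B R v' := by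
  unfold B
  simp only [map_add, Finset.sum_add_distrib]
  abel

theorem B_smul (c : k) (v : V) : B R (c • v) = c • B R v := by
  unfold B
  simp only [map_smul, smul_add, Finset.smul_sum]

theorem sh_A (j : Fin 7) (v : V) : sh R j (A R (R (x ^ j.val) v)) = v + ∑ i, s k (i + j) • R (D i) v := by
  unfold A sh
  rw [map_add, R_inv, map_sum]
  congr 1
  symm
  refine Fintype.sum_equiv (Equiv.addRight j) _ _ fun i => ?_
  rw [Equiv.coe_addRight, map_smul]
  congr 1
  rw [← D_shift, R_inv]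

/-- **the decomposition** -/
theorem decomp (v : V) : (8 : k) • v = B R v + ∑ j, sh R j (A R (R (x ^ j.val) v)) := by
  simp only [sh_A]
  rw [Finset.sum_add_distrib, Finset.sum_comm]
  simp only [← Finset.sum_smul, sum_s_shift]
  rw [Finset.sum_const, Finset.card_univ, Fintype.card_fin, ← Nat.cast_smul_eq_nsmul k]
  unfold B
  simp only [neg_smul, one_smul, Finset.sum_neg_distrib]
  rw [show (8 : k) = 1 + (7 : ℕ) by norm_num, add_smul, one_smul]
  abel

end
end Cfsg.Agent.H179.JOne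
end

-- part: H179/JoneD
section
/-!
# `J₁`: `dim V = dim V0 + 7 dim L0` (helper179)
-/

set_option autoImplicit false
set_option linter.unusedSectionVars false

namespace Cfsg.Agent.H179.JOne

open Cfsg.Spor (jankoX jankoY J1)
open Module

variable {k : Type*} [Field k] {V : Type*} [AddCommGroup V] [Module k V] {R : J1 →* Module.End k V}

theorem x_pow_seven : x ^ (7:ℕ) = 1 := by
  have h := x7
  change x * (x * (x * (x * (x * (x * (x * 1)))))) = 1 at h
  rw [← h]
  simp only [pow_succ, pow_zero, mul_assoc, mul_one, one_mul]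

theorem x_pow_mod (n : ℕ) : x ^ (n % 7) = x ^ n := by
  conv_rhs => rw [← Nat.mod_add_div n 7, pow_add, pow_mul, x_pow_seven, one_pow, mul_one]

theorem xm_xj (m j : Fin 7) : x ^ m.val * (x ^ j.val)⁻¹ = (x ^ (j - m).val)⁻¹ := by
  rw [mul_inv_eq_iff_eq_mul, eq_comm, inv_mul_eq_iff_eq_mul, ← pow_add, ← x_pow_mod ((j - m).val + m.val)]
  congr 1
  have h : ((j - m) + m).val = j.val := by rw [sub_add_cancel]
  rw [Fin.val_add] at h
  exact h.symm

theorem R_x_sh (m j : Fin 7) (u : V) : R (x ^ m.val) (sh R j u) = sh R (j - m) u := by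
  rw [sh, sh, ← R_mul, xm_xj]

theorem sh_zero (u : V) : sh R 0 u = u := by
  rw [sh]
  simp only [_root_.Fin.isValue, _root_.Fin.coe_ofNat_eq_mod, _root_.Nat.zero_mod, _root_.pow_zero, _root_.inv_one, _root_.map_one, _root_.Module.End.one_apply]

theorem sh_map_zero (j : Fin 7) : sh R j (0 : V) = 0 := map_zero _

theorem sh_add (j : Fin 7) (u u' : V) : sh R j (u + u') = sh R j u + sh R j u' := map_add _ _ _
theorem sh_smul (j : Fin 7) (c : k) (u : V) : sh R j (c • u) = c • sh R j u := map_smul _ _ _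

theorem A_zero : A R (0 : V) = 0 := by
  have h := A_smul (R := R) (0 : k) (0 : V)
  rwa [zero_smul, zero_smul] at h

theorem B_zero : B R (0 : V) = 0 := by
  have h := B_smul (R := R) (0 : k) (0 : V)
  rwa [zero_smul, zero_smul] at h

theorem A_sum {ι : Type*} (t : Finset ι) (f : ι → V) : A R (∑ i ∈ t, f i) = ∑ i ∈ t, A R (f i) := by
  classical
  induction t using Finset.induction_on with
  | empty => simpa using A_zero
  | insert a t ha ih => rw [Finset.sum_insert ha, Finset.sum_insert ha, A_add, ih]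

theorem B_sum {ι : Type*} (t : Finset ι) (f : ι → V) : B R (∑ i ∈ t, f i) = ∑ i ∈ t, B R (f i) := by
  classical
  induction t using Finset.induction_on with
  | empty => simpa using B_zero
  | insert a t ha ih => rw [Finset.sum_insert ha, Finset.sum_insert ha, B_add, ih]

/-- the value of `A` on a sum of shifts -/
theorem A_x_sum {c : Fin 7 → V} (hc : ∀ j, c j ∈ L0 R) (m : Fin 7) :
    A R (R (x ^ m.val) (∑ j, sh R j (c j))) = (8 : k) • c m := by
  rw [map_sum, A_sum, Finset.sum_eq_single m]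
  · rw [R_x_sh, sub_self, sh_zero, A_L0 (hc m)]
  · intro j _ hj
    rw [R_x_sh, A_sh (hc j) (sub_ne_zero.2 hj)]
  · intro h
    exact absurd (Finset.mem_univ m) h

theorem eight_ne (h2 : (2 : k) ≠ 0) : (8 : k) ≠ 0 := by
  have h : (8 : k) = 2 ^ (3:ℕ) := by norm_num
  rw [h]
  exact pow_ne_zero 3 h2

/-- `V0 × L0 ^ 7 → V` -/
def Phi (R : J1 →* Module.End k V) : (V0 R × (Fin 7 → L0 R)) →ₗ[k] V where
  toFun p := p.1.1 + ∑ j, sh R j (p.2 j).1
  map_add' p q := by
    simp only [Prod.fst_add, Prod.snd_add, Pi.add_apply, Submodule.coe_add, sh_add, Finset.sum_add_distrib]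
    abel
  map_smul' c p := by
    simp only [Prod.smul_fst, Prod.smul_snd, Pi.smul_apply, Submodule.coe_smul, sh_smul, smul_add, Finset.smul_sum,
      RingHom.id_apply]

theorem R_x_V0 (m : Fin 7) {v : V} (hv : v ∈ V0 R) : R (x ^ m.val) v ∈ V0 R := by
  intro i
  have h := D_xj m (i - m)
  rw [sub_add_cancel] at h
  rw [← R_mul, ← h, R_mul, hv]

theorem Phi_injective (h2 : (2 : k) ≠ 0) : Function.Injective (Phi R) := by
  rw [injective_iff_map_eq_zero]
  rintro ⟨v, c⟩ h
  change v.1 + ∑ j, sh R j (c j).1 = 0 at h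
  have h8 := eight_ne h2
  have hv : v = 0 := by
    have h1 := congrArg (B R) h
    rw [B_add, B_V0 v.2, B_sum, B_zero, Finset.sum_eq_zero (fun j _ => B_sh (c j).2 j), add_zero] at h1
    exact Subtype.ext ((smul_eq_zero.1 h1).resolve_left h8)
  subst hv
  rw [Submodule.coe_zero, zero_add] at h
  refine Prod.ext rfl ?_
  funext m
  apply Subtype.ext
  have h1 := A_x_sum (R := R) (c := fun j => (c j).1) (fun j => (c j).2) m
  rw [h, map_zero, A_zero] at h1
  exact (smul_eq_zero.1 h1.symm).resolve_left h8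

theorem Phi_surjective (h2 : (2 : k) ≠ 0) : Function.Surjective (Phi R) := by
  intro v
  have h8 := eight_ne h2
  refine ⟨(⟨(8 : k)⁻¹ • B R v, (V0 R).smul_mem _ (B_mem v)⟩,
    fun j => ⟨(8 : k)⁻¹ • A R (R (x ^ j.val) v), (L0 R).smul_mem _ (A_mem _)⟩), ?_⟩
  change (8 : k)⁻¹ • B R v + ∑ j : Fin 7, sh R j ((8 : k)⁻¹ • A R (R (x ^ j.val) v)) = v
  simp only [sh_smul]
  rw [← Finset.smul_sum, ← smul_add, ← decomp, inv_smul_smul₀ h8]

theorem finrank_eq [FiniteDimensional k V] (h2 : (2 : k) ≠ 0) : finrank k V = finrank k (V0 R) + 7 * finrank k (L0 R) := by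
  rw [← (LinearEquiv.ofBijective (Phi R) ⟨Phi_injective h2, Phi_surjective h2⟩).finrank_eq, finrank_prod,
    finrank_pi_fintype, Finset.sum_const, Finset.card_univ, Fintype.card_fin, smul_eq_mul]

/-- if `L0 = 0` then `2³` acts trivially -/
theorem V0_eq_top (h2 : (2 : k) ≠ 0) (h : L0 R = ⊥) : V0 R = ⊤ := by
  rw [eq_top_iff]
  intro v _
  obtain ⟨⟨v0, c⟩, hv⟩ := Phi_surjective (R := R) h2 v
  have hc : ∀ j, (c j).1 = 0 := fun j => (Submodule.mem_bot k).1 (h ▸ (c j).2)
  change v0.1 + ∑ j, sh R j (c j).1 = v at hv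
  simp only [hc] at hv
  rw [Finset.sum_eq_zero (fun j _ => sh_map_zero j), add_zero] at hv
  rw [← hv]
  exact v0.2

end Cfsg.Agent.H179.JOne
end

-- part: H179/JoneE
section
/-!
# `J₁`: the action of `x, y, w` on the frame (helper179)
-/

set_option autoImplicit false
set_option linter.unusedSectionVars false

namespace Cfsg.Agent.H179.JOne

open Cfsg.Spor (jankoX jankoY J1)
open Module

variable {k : Type*} [Field k] {V : Type*} [AddCommGroup V] [Module k V] {R : J1 →* Module.End k V}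

theorem rel_D : w * (D 6 * (w * (D 1 * w))) = D 1 * (w * (D 6 * (w * (D 1 * (x * x))))) := by
  have h1 : w * (D 6 * (w * (D 1 * w))) = ew ([2] ++ (wD 6 ++ ([2] ++ (wD 1 ++ [2])))) := by
    rw [ew_append, ew_append, ew_append, ew_append]
    change _ = w * 1 * (_ * (w * 1 * (_ * (w * 1))))
    simp only [mul_one]
    rfl
  have h2 : D 1 * (w * (D 6 * (w * (D 1 * (x * x))))) =
      ew (wD 1 ++ ([2] ++ (wD 6 ++ ([2] ++ (wD 1 ++ [0, 0]))))) := by
    rw [ew_append, ew_append, ew_append, ew_append, ew_append]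
    change _ = _ * (w * 1 * (_ * (w * 1 * (_ * (x * (x * 1))))))
    simp only [mul_one]
    rfl
  rw [h1, h2]
  exact ew_rel (by decide +kernel)

theorem w_sq : w * w = 1 := by
  have h := ww
  change w * (w * 1) = 1 at h
  rwa [mul_one] at h

theorem w_x : w * x⁻¹ = x * w := by
  have h := wx
  change w * (x * (w * 1)) = x⁻¹ * 1 at h
  rw [mul_one, mul_one] at h
  rw [← h, ← mul_assoc, w_sq, one_mul]

seal _root_.Finset.sum _root_.dotProduct in
theorem w_xj (n : ℕ) : w * (x ^ n)⁻¹ = x ^ n * w := by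
  induction n with
  | zero => simp
  | succ n ih => rw [pow_succ, mul_inv_rev, ← mul_assoc, w_x, mul_assoc, ih, ← mul_assoc, ← pow_succ', ← pow_succ]

theorem w_y : w * y = y * w := by
  have h := wy
  change w * (y * 1) = y * (w * 1) at h
  rwa [mul_one, mul_one] at h

theorem y_x : y * x = x ^ (4:ℕ) * y := by
  have h := yx
  change y * (x * 1) = x * (x * (x * (x * (y * 1)))) at h
  rw [mul_one, mul_one] at h
  rw [h]
  simp only [pow_succ, pow_zero, one_mul, mul_assoc]

theorem y_xi : y * x⁻¹ = (x ^ (4:ℕ))⁻¹ * y := by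
  rw [eq_inv_mul_iff_mul_eq, ← mul_assoc, ← y_x, mul_assoc, mul_inv_cancel, mul_one]

seal _root_.Finset.sum _root_.dotProduct in
theorem y_xj (n : ℕ) : y * (x ^ n)⁻¹ = (x ^ (4 * n))⁻¹ * y := by
  induction n with
  | zero => simp
  | succ n ih =>
    rw [pow_succ', mul_inv_rev, ← mul_assoc, ih, mul_assoc, y_xi, ← mul_assoc, ← mul_inv_rev, ← pow_add]
    congr 3
    ring

theorem R_x_sh' (j : Fin 7) (u : V) : R x (sh R j u) = sh R (j - 1) u := by
  have h := R_x_sh (R := R) 1 j u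
  rwa [show x ^ (1 : Fin 7).val = x from pow_one x] at h

theorem R_y_sh (j : Fin 7) (u : V) : R y (sh R j u) = sh R (4 * j) (R y u) := by
  rw [sh, sh, ← R_mul, y_xj, R_mul, ← x_pow_mod (4 * j.val)]
  congr 4

theorem R_w_sh (j : Fin 7) (u : V) : R w (sh R j u) = R (x ^ j.val) (R w u) := by
  rw [sh, ← R_mul, w_xj, R_mul]

/-- `y` preserves `L0` -/
theorem y_L0 {u : V} (hu : u ∈ L0 R) : R y u ∈ L0 R := by
  intro i
  rw [← R_mul, ← y_D, R_mul, hu, map_smul]
  congr 1
  fin_cases i <;> rfl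

theorem y_V0 {u : V} (hu : u ∈ V0 R) : R y u ∈ V0 R := by
  intro i
  rw [← R_mul, ← y_D, R_mul, hu]

variable (R)
/-- a combination of the shifts of `u` -/
def vec (u : V) (f : Fin 7 → k) : V := ∑ i, f i • sh R i u
variable {R}

theorem D_vec {u : V} (hu : u ∈ L0 R) (m : Fin 7) (f : Fin 7 → k) :
    R (D m) (vec R u f) = vec R u fun i => s k (m + i) * f i := by
  unfold vec
  rw [map_sum]
  refine Finset.sum_congr rfl fun i _ => ?_
  rw [map_smul, D_sh hu, smul_smul, mul_comm]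

theorem x_vec (u : V) (f : Fin 7 → k) : R x (vec R u f) = vec R u fun i => f (i + 1) := by
  unfold vec
  rw [map_sum]
  refine Fintype.sum_equiv (Equiv.subRight 1) _ _ fun i => ?_
  rw [map_smul, R_x_sh', Equiv.subRight_apply]
  change _ = f (i - 1 + 1) • _
  rw [sub_add_cancel]

theorem xj_vec (u : V) (j : Fin 7) (f : Fin 7 → k) : R (x ^ j.val) (vec R u f) = vec R u fun i => f (i + j) := by
  unfold vec
  rw [map_sum]
  refine Fintype.sum_equiv (Equiv.subRight j) _ _ fun i => ?_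
  rw [map_smul, R_x_sh, Equiv.subRight_apply]
  change _ = f (i - j + j) • _
  rw [sub_add_cancel]

theorem xj_fixed {v : V} (hv : R x v = v) (n : ℕ) : R (x ^ n) v = v := by
  induction n with
  | zero => rw [pow_zero, map_one]; rfl
  | succ n ih => rw [pow_succ, R_mul, hv, ih]

theorem w_vec {u v0 : V} {c : Fin 7 → k} (hw : R w u = v0 + vec R u c) (hv : R x v0 = v0) (f : Fin 7 → k) :
    R w (vec R u f) = (∑ j, f j) • v0 + vec R u fun i => ∑ j, c (i + j) * f j := by
  conv_lhs => unfold vec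
  rw [map_sum]
  have h : ∀ j, R w (f j • sh R j u) = f j • v0 + f j • vec R u fun i => c (i + j) := by
    intro j
    rw [map_smul, R_w_sh, hw, map_add, xj_fixed hv, xj_vec, smul_add]
  simp only [h]
  rw [Finset.sum_add_distrib, ← Finset.sum_smul]
  congr 1
  unfold vec
  simp only [Finset.smul_sum, Finset.sum_smul]
  rw [Finset.sum_comm]
  refine Finset.sum_congr rfl fun i _ => Finset.sum_congr rfl fun j _ => ?_
  rw [smul_smul, mul_comm]

theorem vec_injective (h2 : (2 : k) ≠ 0) {u : V} (hu : u ∈ L0 R) (hu0 : u ≠ 0) {v v' : V} (hv : v ∈ V0 R) (hv' : v' ∈ V0 R)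
    {f g : Fin 7 → k} (h : v + vec R u f = v' + vec R u g) : v = v' ∧ f = g := by
  have h1 : Phi R (⟨v, hv⟩, fun j => ⟨f j • u, (L0 R).smul_mem _ hu⟩) =
      Phi R (⟨v', hv'⟩, fun j => ⟨g j • u, (L0 R).smul_mem _ hu⟩) := by
    change v + ∑ j, sh R j (f j • u) = v' + ∑ j, sh R j (g j • u)
    simp only [sh_smul]
    exact h
  have h3 := Phi_injective h2 h1
  refine ⟨congrArg (fun p => (p.1 : V)) h3, ?_⟩
  funext j
  have h4 : f j • u = g j • u := congrArg (fun p => ((p.2 j : L0 R) : V)) h3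
  exact smul_left_injective k hu0 h4

theorem vec_single (u : V) : vec R u (Pi.single 0 1) = u := by
  unfold vec
  rw [Finset.sum_eq_single 0]
  · rw [Pi.single_eq_same, one_smul, sh_zero]
  · intro i _ hi
    rw [Pi.single_eq_of_ne hi, zero_smul]
  · intro h
    exact absurd (Finset.mem_univ _) h

end Cfsg.Agent.H179.JOne
end

-- part: H179/JoneF
section
/-!
# `J₁`: the 7-dimensional representation in characteristic 11 (helper179)
-/

set_option autoImplicit false
set_option linter.unusedSectionVars false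

namespace Cfsg.Agent.H179.JOne

open Cfsg.Spor (jankoX jankoY J1)
open Module

variable {k : Type*} [Field k] {V : Type*} [AddCommGroup V] [Module k V] {R : J1 →* Module.End k V}

theorem two_ne (h11 : (11 : k) = 0) : (2 : k) ≠ 0 := by
  intro h
  have h1 : (1 : k) = 11 - 5 * 2 := by norm_num
  rw [h11, h] at h1
  simp at h1

/-- the `y`-invariance of the coefficients -/
theorem c_four (h2 : (2 : k) ≠ 0) {u v0 : V} (hu : u ∈ L0 R) (hu0 : u ≠ 0) (hv : v0 ∈ V0 R) {c : Fin 7 → k}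
    (hw : R w u = v0 + vec R u c) {l : k} (hl0 : l ≠ 0) (hl : R y u = l • u) (i : Fin 7) : c (4 * i) = c i := by
  have h1 : R y (R w u) = l • R w u := by
    rw [← R_mul, ← w_y, R_mul, hl, map_smul]
  rw [hw, map_add, smul_add] at h1
  have h2' : R y (vec R u c) = vec R u fun i => l * c (2 * i) := by
    unfold vec
    rw [map_sum]
    refine Fintype.sum_bijective (fun i => 4 * i) (by decide) _ _ fun i => ?_
    rw [map_smul, R_y_sh, hl, sh_smul, smul_smul]
    congr 1
    rw [mul_comm]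
    congr 2
    revert i
    decide
  have h3 : l • vec R u c = vec R u fun i => l * c i := by
    unfold vec
    rw [Finset.smul_sum]
    exact Finset.sum_congr rfl fun i _ => smul_smul _ _ _
  rw [h2', h3] at h1
  have h4 := (vec_injective h2 hu hu0 (y_V0 hv) ((V0 R).smul_mem l hv) h1).2
  have h5 := congrFun h4 (4 * i)
  have h6 := mul_left_cancel₀ hl0 h5
  rw [← h6]
  congr 1
  clear h6 h5
  revert i
  decide

end Cfsg.Agent.H179.JOne
end

-- part: H179/JoneG
section
set_option autoImplicit false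

namespace Cfsg.Agent.H179.JOne

/-- the table of the 3-form -/
def tt (m n : Fin 7) : ℤ :=
  if (m, n) = (1, 3) ∨ (m, n) = (2, 6) ∨ (m, n) = (4, 5) then 1
  else if (m, n) = (3, 1) ∨ (m, n) = (6, 2) ∨ (m, n) = (5, 4) then -1 else 0

def T3 (a b c : Fin 7) : ℤ := tt (b - a) (c - a)

end Cfsg.Agent.H179.JOne
end

-- part: H179/JoneH
section
/-!
# `J₁ < G₂(11)`: the invariant alternating 3-form in dimension 7 (helper179)
-/

set_option autoImplicit false
set_option linter.unusedSectionVars false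

namespace Cfsg.Agent.H179.JOne

open Cfsg.Spor (jankoX jankoY J1)
open Module Cfsg.Agent.H179.G2 Cfsg.Agent.H856.Tri

variable {k : Type*} [Field k] {V : Type*} [AddCommGroup V] [Module k V] {R : J1 →* Module.End k V}

theorem linInd (h2 : (2 : k) ≠ 0) {u : V} (hu : u ∈ L0 R) (hu0 : u ≠ 0) : LinearIndependent k fun i => sh R i u := by
  rw [Fintype.linearIndependent_iff]
  intro g hg
  have h : (0 : V) + vec R u g = 0 + vec R u 0 := by
    congr 1
    rw [vec, hg, vec]
    simp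
  have h3 := (vec_injective h2 hu hu0 (V0 R).zero_mem (V0 R).zero_mem h).2
  exact fun i => congrFun h3 i

/-- the frame as a basis -/
noncomputable def bs [FiniteDimensional k V] (h2 : (2 : k) ≠ 0) {u : V} (hu : u ∈ L0 R) (hu0 : u ≠ 0)
    (hn : finrank k V = 7) : Basis (Fin 7) k V :=
  basisOfLinearIndependentOfCardEqFinrank (linInd h2 hu hu0) (by rw [Fintype.card_fin, hn])

section
variable [FiniteDimensional k V] (h2 : (2 : k) ≠ 0) {u : V} (hu : u ∈ L0 R) (hu0 : u ≠ 0) (hn : finrank k V = 7)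

/-- the 3-form -/
noncomputable def f3 : V →ₗ[k] V →ₗ[k] V →ₗ[k] k :=
  ofTable (fun a b c => (T3 a b c : k)) fun a => (bs h2 hu hu0 hn).coord a

theorem d_eq : D 0 = d := by
  rw [D]
  change d * 1 = d
  rw [mul_one]

end

end Cfsg.Agent.H179.JOne
end

-- part: H179/JoneI
section
/-!
# `J₁` in dimension 7, characteristic 11, for a core: the invariant alternating 3-form (helper179)
-/

set_option autoImplicit false
set_option linter.unusedSectionVars false

namespace Cfsg.Agent.H179.JOne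

open Cfsg.Spor (jankoX jankoY J1)
open Module Cfsg.Agent.H179.G2 Cfsg.Agent.H856.Tri Cfsg.Geo Cfsg.Agent.H915.LD

section gen
variable {k : Type*} [Field k] {V : Type*} [AddCommGroup V] [Module k V] {R : J1 →* Module.End k V}

/-- coordinates when the weight space is a line -/
theorem exists_coord (h2 : (2 : k) ≠ 0) {u : V} (hu : u ∈ L0 R) (hu0 : u ≠ 0) (hb : finrank k (L0 R) = 1) (v : V) :
    ∃ v0 ∈ V0 R, ∃ c : Fin 7 → k, v = v0 + vec R u c := by
  obtain ⟨⟨v0, c⟩, hv⟩ := Phi_surjective (R := R) h2 v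
  have h1 : ∀ j, ∃ t : k, t • u = (c j).1 := by
    intro j
    have hne : (⟨u, hu⟩ : L0 R) ≠ 0 := fun h => hu0 (congrArg Subtype.val h)
    obtain ⟨t, ht⟩ := (finrank_eq_one_iff_of_nonzero' (⟨u, hu⟩ : L0 R) hne).1 hb (c j)
    exact ⟨t, congrArg Subtype.val ht⟩
  choose t ht using h1
  refine ⟨v0.1, v0.2, t, ?_⟩
  rw [← hv]
  change v0.1 + ∑ j, sh R j (c j).1 = _
  congr 1
  rw [vec]
  exact Finset.sum_congr rfl fun j _ => by rw [← ht, sh_smul]

theorem exists_y (hb : finrank k (L0 R) = 1) {u : V} (hu : u ∈ L0 R) (hu0 : u ≠ 0) :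
    ∃ l : k, l ≠ 0 ∧ R y u = l • u := by
  have hne : (⟨u, hu⟩ : L0 R) ≠ 0 := fun h => hu0 (congrArg Subtype.val h)
  obtain ⟨t, ht⟩ := (finrank_eq_one_iff_of_nonzero' (⟨u, hu⟩ : L0 R) hne).1 hb ⟨R y u, y_L0 hu⟩
  have h1 : t • u = R y u := congrArg Subtype.val ht
  refine ⟨t, ?_, h1.symm⟩
  rintro rfl
  rw [zero_smul] at h1
  apply hu0
  have h2 : R y⁻¹ (R y u) = u := R_inv y u
  rw [← h1, map_zero] at h2
  exact h2.symm

theorem L0_ne_bot (h2 : (2 : k) ≠ 0) (hd : R d ≠ 1) : L0 R ≠ ⊥ := by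
  intro h
  apply hd
  have h1 := V0_eq_top h2 h
  ext v
  have h3 : v ∈ V0 R := by rw [h1]; trivial
  have h4 := h3 0
  rw [d_eq] at h4
  exact h4

end gen

universe u v

variable {ι : Type} [Fintype ι] [DecidableEq ι] {F : Type u} [Field F] {P : Subgroup (Matrix.GeneralLinearGroup ι F)}

theorem exists_hom (hC : Core P) (e : Soc P ≃* J1) :
    ∃ φ : J1 →* P, Function.Surjective φ ∧ ∀ z, H1.RealCover.pj P e (φ z) = z := by
  have : Finite J1 := H413.JOneLocal.fin_J1
  refine H1.RealCover.cover_hom hC (by exact e) (S2039.result : HasCyclicSchurMultiplier J1 1) (MonoidHom.id J1)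
    ⟨Function.surjective_id, ?_, ?_⟩ ?_
  · rw [MonoidHom.ker_id]; exact bot_le
  · rw [MonoidHom.ker_id]; exact bot_le
  · rw [MonoidHom.ker_id, Subgroup.card_bot, Nat.card_congr (Multiplicative.toAdd (α := ZMod 1)), Nat.card_zmod]

end Cfsg.Agent.H179.JOne
end

-- part: H179/JoneJ
section
/-!
# `J₁`, characteristic 11: no irreducible representation of degree 8 (helper179)
-/

set_option autoImplicit false
set_option linter.unusedSectionVars false

namespace Cfsg.Agent.H179.JOne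

open Cfsg.Spor (jankoX jankoY J1)
open Module

/-- the elimination in degree 8 -/
theorem elim8 {k : Type*} [Field k] {t z a b e : k} (h11 : (11 : k) = 0)
    (hq : t + a + 3*b + 3*e = 0)
    (hq0 : z + a^(2:ℕ) + 3*b^(2:ℕ) + 3*e^(2:ℕ) + (-1) = 0)
    (hq1 : z + a*b + a*e + b^(2:ℕ) + 3*b*e + e^(2:ℕ) = 0)
    (hr : t^(2:ℕ) + t*a + (-1)*t*b + (-1)*t*e + t + (-1)*z + (-1)*a^(2:ℕ) + (-4)*a*b + a + b^(2:ℕ) + (-1)*b + 5*e^(2:ℕ) + (-1)*e = 0)
    (hr0 : t*z + (-2)*z*b + z + (-1)*a^(3:ℕ) + (-4)*a*b*e + a*b + 2*a*e^(2:ℕ) + (-1)*a*e + (-1)*b^(3:ℕ) + 2*b^(2:ℕ)*e + (-1)*b^(2:ℕ) + 2*b*e^(2:ℕ) + (-1)*b*e + e^(3:ℕ) + e^(2:ℕ) = 0)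
    (hr1 : t*z + (-2)*z*b + z + (-2)*a^(2:ℕ)*b + (-1)*a^(2:ℕ)*e + (-1)*a*b^(2:ℕ) + 2*a*b*e + (-1)*a*b + a*e + b^(3:ℕ) + (-3)*b^(2:ℕ)*e + b^(2:ℕ) + 4*b*e^(2:ℕ) + (-3)*b*e + e^(3:ℕ) + e^(2:ℕ) = 0)
    (hr2 : t*z + 2*z*a + (-2)*z*b + (-2)*z*e + (-1)*z + (-2)*a^(2:ℕ)*b + a^(2:ℕ)*e + (-1)*a*b^(2:ℕ) + (-4)*a*b*e + (-1)*a*b + (-1)*a*e + b^(3:ℕ) + b^(2:ℕ)*e + b^(2:ℕ) + 2*b*e^(2:ℕ) + b*e + 3*e^(3:ℕ) + e^(2:ℕ) = 0)
    (hm : t^(3:ℕ) + (-1)*t^(2:ℕ) + (-2)*t*z + (-5)*z*a + (-3)*z*b + 9*z*e + z = 0) : False := by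
  have h : (1 : k) = 0 := by
    linear_combination ((4)*a + (4)*b + (5)*e + (-2)) * hm + ((-4)*t^(2:ℕ)*a + (-4)*t^(2:ℕ)*b + (-5)*t^(2:ℕ)*e + (2)*t^(2:ℕ) + (2)*t*z + (4)*t*a^(2:ℕ) + (5)*t*a*b + (-3)*t*a*e + (-3)*t*a + (-4)*t*b^(2:ℕ) + t*b*e + (4)*t*b + (-4)*t*e^(2:ℕ) + (4)*t*e + (5)*t + (2)*z*b + z*e + (-4)*z + (-4)*a^(3:ℕ) + (5)*a^(2:ℕ)*b + (4)*a^(2:ℕ)*e + (-2)*a^(2:ℕ) + (-5)*a*b^(2:ℕ) + (-2)*a*b*e + (5)*a*b + (3)*a*e^(2:ℕ) + (-5)*a*e + (-3)*a + (-5)*b^(3:ℕ) + (-4)*b^(2:ℕ)*e + (-1)*b^(2:ℕ) + (-1)*b*e^(2:ℕ) + (5)*b*e + (-5)*b + (-2)*e^(3:ℕ) + (-3)*e^(2:ℕ) + (5)*e + (-4)) * hq + ((-3)*z + (-3)*a^(2:ℕ) + (-3)*a*b + (4)*a*e + (-4)*b^(2:ℕ) + (4)*b*e + (-5)*b + (5)*e^(2:ℕ) + (-5)*e + (-1)) * hq0 + (z + (5)*a + (-1)*b^(2:ℕ) + (-2)*b*e + b + (2)*e + (-1)) * hq1 + ((-2)*z + (-2)*a*e + (5)*a + (5)*b^(2:ℕ) + (4)*b*e + (5)*b + (-3)*e^(2:ℕ) + (-5)*e + (4)) * hr + ((4)*a + (4)*b + (-4)*e + (4)) * hr0 + ((3)*a + (-4)*b + (-3)*e + (5)) * hr1 + (a + (-2)*b +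 (-3)*e + (4)) * hr2 + (t^(2:ℕ)*a*b + (2)*t^(2:ℕ)*a*e + t^(2:ℕ)*b^(2:ℕ) + (2)*t^(2:ℕ)*b*e + (-1)*t^(2:ℕ)*b + (2)*t^(2:ℕ)*e^(2:ℕ) + (-1)*t^(2:ℕ) + t*z*e + (-1)*t*z + (-2)*t*a^(2:ℕ)*b + (-1)*t*a^(2:ℕ)*e + (-1)*t*a*b^(2:ℕ) + (-1)*t*a*b*e + t*a*e^(2:ℕ) + (2)*t*a*e + (-1)*t*a + (2)*t*b^(3:ℕ) + (2)*t*b^(2:ℕ)*e + (-1)*t*b^(2:ℕ) + t*b*e^(2:ℕ) + (-3)*t*b*e + (-1)*t*b + t*e^(3:ℕ) + (-1)*t*e^(2:ℕ) + (-1)*t*e + (2)*z*a^(2:ℕ) + (4)*z*a*b + (-1)*z*a*e + (-2)*z*a + (2)*z*b^(2:ℕ) + (-5)*z*b*e + (3)*z*b + (-4)*z*e^(2:ℕ) + (3)*z*e + a^(4:ℕ) + (2)*a^(3:ℕ)*b + a^(3:ℕ) + (-3)*a^(2:ℕ)*b*e + (4)*a^(2:ℕ)*b + (-2)*a^(2:ℕ)*e^(2:ℕ) + a^(2:ℕ)*e + (4)*a*b^(3:ℕ) + (4)*a*b^(2:ℕ)*e + (-1)*a*b^(2:ℕ) + (-5)*a*b*e^(2:ℕ) + (-1)*a*b*e + (3)*a*b + (-1)*a*e^(3:ℕ) + (-3)*a*e^(2:ℕ) + (2)*a*e + (3)*b^(4:ℕ) + (2)*b^(3:ℕ) + b^(2:ℕ)*e^(2:ℕ) + b^(2:ℕ)*e + b^(2:ℕ) + b*e^(3:ℕ) + (-6)*b*e^(2:ℕ) + (2)*b*e + b + (2)*e^(4:ℕ) + (3)*e^(3:ℕ) + (-4)*e^(2:ℕ) + e) * h11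
  exact one_ne_zero h

variable {k : Type*} [Field k] {V : Type*} [AddCommGroup V] [Module k V] {R : J1 →* Module.End k V}

theorem x_V0 {v : V} (hv : v ∈ V0 R) : R x v ∈ V0 R := by
  have h := R_x_V0 (R := R) 1 hv
  rwa [show x ^ (1 : Fin 7).val = x from pow_one x] at h

/-- invariance under the generators -/
theorem inv_of_gens {L : Submodule k V} (hx : ∀ v ∈ L, R x v ∈ L) (hd : ∀ v ∈ L, R d v ∈ L) (hw : ∀ v ∈ L, R w v ∈ L)
    [FiniteDimensional k V] : ∀ g, ∀ v ∈ L, R g v ∈ L := by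
  have inv : ∀ {g : J1}, (∀ v ∈ L, R g v ∈ L) → ∀ v ∈ L, R g⁻¹ v ∈ L := by
    intro g hg v hv
    have h1 : Set.MapsTo (R g) L L := hg
    have hinj : Function.Injective ((R g).restrict h1) := by
      intro a b hab
      have h2 : R g a.1 = R g b.1 := congrArg Subtype.val hab
      have h3 := congrArg (R g⁻¹) h2
      rw [R_inv, R_inv] at h3
      exact Subtype.ext h3
    obtain ⟨⟨u, hu⟩, hv'⟩ := LinearMap.surjective_of_injective hinj ⟨v, hv⟩
    have h4 : R g u = v := congrArg Subtype.val hv'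
    rw [← h4, R_inv]
    exact hu
  let K : Subgroup J1 :=
    { carrier := {g | ∀ v ∈ L, R g v ∈ L}
      one_mem' := fun v hv => by rw [map_one]; exact hv
      mul_mem' := fun {a b} ha hb v hv => by rw [R_mul]; exact ha _ (hb _ hv)
      inv_mem' := fun {a} ha => inv ha }
  have hK : K = ⊤ := closure_eq_top hx hd hw
  intro g
  exact (hK ▸ Subgroup.mem_top g : g ∈ K)

/-- the shifts of `u` span an invariant subspace if `w u` is in it -/
theorem vec_invariant [FiniteDimensional k V] {u : V} (hu : u ∈ L0 R) {c : Fin 7 → k} (hw : R w u = vec R u c) :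
    ∀ g, ∀ v ∈ Set.range (vec R u), R g v ∈ Set.range (vec R u) := by
  let L : Submodule k V :=
    { carrier := Set.range (vec R u)
      add_mem' := by
        rintro _ _ ⟨f, rfl⟩ ⟨g, rfl⟩
        refine ⟨f + g, ?_⟩
        simp only [vec, Pi.add_apply, add_smul, Finset.sum_add_distrib]
      zero_mem' := ⟨0, by simp [vec]⟩
      smul_mem' := by
        rintro t _ ⟨f, rfl⟩
        refine ⟨fun i => t * f i, ?_⟩
        simp only [vec, Finset.smul_sum, smul_smul] }
  have hw' : R w u = 0 + vec R u c := by rw [zero_add, hw]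
  refine inv_of_gens (L := L) ?_ ?_ ?_
  · rintro _ ⟨f, rfl⟩
    exact ⟨_, (x_vec u f).symm⟩
  · rintro _ ⟨f, rfl⟩
    rw [← d_eq]
    exact ⟨_, (D_vec hu 0 f).symm⟩
  · rintro _ ⟨f, rfl⟩
    have h5 := w_vec hw' (map_zero _) f
    rw [smul_zero, zero_add] at h5
    rw [h5]
    exact ⟨_, rfl⟩

/-- a combination fixed by `x` has constant coefficients -/
theorem const_of_fixed (h2 : (2 : k) ≠ 0) {u : V} (hu : u ∈ L0 R) (hu0 : u ≠ 0) {v0 : V} (hv : v0 ∈ V0 R)
    {g : Fin 7 → k} (h : R x (v0 + vec R u g) = v0 + vec R u g) : R x v0 = v0 ∧ g = fun _ => g 0 := by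
  rw [map_add, x_vec] at h
  obtain ⟨h1, h3⟩ := vec_injective h2 hu hu0 (x_V0 hv) hv h
  refine ⟨h1, ?_⟩
  have h4 : ∀ i, g (i + 1) = g i := fun i => congrFun h3 i
  funext i
  have e1 := h4 0
  have e2 := h4 1
  have e3 := h4 2
  have e4 := h4 3
  have e5 := h4 4
  have e6 := h4 5
  simp only [Fin.isValue, zero_add, Fin.reduceAdd] at e1 e2 e3 e4 e5 e6
  fin_cases i
  · rfl
  · exact e1
  · exact e2.trans e1
  · exact e3.trans (e2.trans e1)
  · exact e4.trans (e3.trans (e2.trans e1))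
  · exact e5.trans (e4.trans (e3.trans (e2.trans e1)))
  · exact e6.trans (e5.trans (e4.trans (e3.trans (e2.trans e1))))

theorem eight_aux (h11 : (11 : k) = 0) {u v0 : V} (hu : u ∈ L0 R) (hu0 : u ≠ 0) (hv0 : v0 ∈ V0 R) (hz : v0 ≠ 0)
    {c : Fin 7 → k} {t z : k} (hw : R w u = v0 + vec R u c) (hx : R x v0 = v0)
    (hg : R w v0 = t • v0 + vec R u fun _ => z) (h4 : ∀ i, c (4 * i) = c i) : False := by
  have h2 := two_ne h11
  have hW : ∀ (τ : k) (f : Fin 7 → k), R w (τ • v0 + vec R u f) =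
      (τ * t + ∑ j, f j) • v0 + vec R u fun i => τ * z + ∑ j, c (i + j) * f j := by
    intro τ f
    rw [map_add, map_smul, hg, w_vec hw hx, smul_add, smul_smul, add_smul]
    have h3 : τ • vec R u (fun _ => z) = vec R u fun _ => τ * z := by
      unfold vec
      rw [Finset.smul_sum]
      exact Finset.sum_congr rfl fun i _ => smul_smul _ _ _
    have h5 : (vec R u fun i => τ * z + ∑ j, c (i + j) * f j) = vec R u (fun _ => τ * z) +
        vec R u fun i => ∑ j, c (i + j) * f j := by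
      unfold vec
      rw [← Finset.sum_add_distrib]
      exact Finset.sum_congr rfl fun i _ => add_smul _ _ _
    rw [h3, h5]
    abel
  have hD : ∀ (m : Fin 7) (τ : k) (f : Fin 7 → k), R (D m) (τ • v0 + vec R u f) =
      τ • v0 + vec R u fun i => s k (m + i) * f i := by
    intro m τ f
    rw [map_add, map_smul, D_vec hu, hv0]
  have inj : ∀ {τ τ' : k} {f g : Fin 7 → k}, τ • v0 + vec R u f = τ' • v0 + vec R u g → τ = τ' ∧ f = g := by
    intro τ τ' f g h
    obtain ⟨h5, h6⟩ := vec_injective h2 hu hu0 ((V0 R).smul_mem τ hv0) ((V0 R).smul_mem τ' hv0) h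
    exact ⟨smul_left_injective k hz h5, h6⟩
  have hu' : u = (0 : k) • v0 + vec R u (Pi.single 0 1) := by rw [zero_smul, zero_add, vec_single]
  have hw1 : R w u = (1 : k) • v0 + vec R u c := by rw [one_smul]; exact hw
  have hv' : v0 = (1 : k) • v0 + vec R u 0 := by
    rw [one_smul, vec]
    simp
  -- `w² = 1` on `u`
  have e1 : R w (R w u) = u := by
    rw [← R_mul, w_sq, map_one]
    rfl
  rw [hw1, hW] at e1
  have f1 := inj (e1.trans hu')
  have c4 : c 4 = c 1 := h4 1
  have c2 : c 2 = c 4 := h4 4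
  have c5 : c 5 = c 3 := h4 3
  have c6 : c 6 = c 5 := h4 5
  -- the relation on `u`
  have e3 : R x (R x u) = (0 : k) • v0 + vec R u (Pi.single 5 1) := by
    rw [zero_smul, zero_add]
    nth_rewrite 1 [← vec_single (R := R) u]
    rw [x_vec, x_vec]
    congr 1
    funext i
    fin_cases i <;> rfl
  have e2 := congrArg (fun g => R g u) rel_D
  simp only [R_mul] at e2
  (simp only [hw1] at e2; simp only [hD] at e2; simp +singlePass only [hW] at e2; simp only [hD] at e2; simp +singlePass only [hW] at e2; rewrite [e3, hD, hW, hD, hW, hD] at e2)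
  have f2 := inj e2
  -- the relation on `v0`
  have e4 := congrArg (fun g => R g v0) rel_D
  simp only [R_mul] at e4
  have hg1 : R w v0 = t • v0 + vec R u fun _ => z := hg
  (simp only [hg1] at e4; simp only [hD] at e4; simp +singlePass only [hW] at e4; simp only [hD] at e4; simp +singlePass only [hW] at e4; (conv at e4 => enter [@3, @6, @6, @6, @6, @6, @6]; rw [hx]); rewrite [hx] at e4)
  have e5 : R (D 1) v0 = v0 := hv0 1
  rw [e5, hg1, hD, hW, hD] at e4
  have f3 := inj e4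
  have hq := f1.1
  have hq0 := congrFun f1.2 0
  have hq1 := congrFun f1.2 1
  have hr := f2.1
  have hr0 := congrFun f2.2 0
  have hr1 := congrFun f2.2 1
  have hr2 := congrFun f2.2 2
  have hm := f3.1
  clear f1 f2 f3 e1 e2 e3 e4 e5 hW hD inj hu' hw1 hv' hg1 hg hw hx h4 hz hv0 hu hu0
  simp only [Fin.sum_univ_seven, s, Fin.isValue, Matrix.cons_val, Fin.reduceAdd, Pi.single_eq_same, ne_eq, Fin.reduceEq,
    not_false_eq_true, Pi.single_eq_of_ne, add_zero, zero_add, one_ne_zero, mul_one, mul_zero] at hq hq0 hq1 hr hr0 hr1 hr2 hm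
  simp only [c6, c5, c2, c4] at hq hq0 hq1 hr hr0 hr1 hr2
  try rw [c6, c5, c2, c4] at hm
  exact elim8 (t := t) (z := z) (a := c 0) (b := c 1) (e := c 3) h11 (by linear_combination hq) (by linear_combination hq0)
    (by linear_combination hq1) (by linear_combination hr) (by linear_combination hr0) (by linear_combination hr1)
    (by linear_combination hr2) (by linear_combination hm)

/-- **degree 8 is impossible in characteristic 11** -/
theorem eight [FiniteDimensional k V] (h11 : (11 : k) = 0) (hd : R d ≠ 1)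
    (hirr : ∀ L : Submodule k V, (∀ g, ∀ v ∈ L, R g v ∈ L) → L = ⊥ ∨ L = ⊤) (hn : finrank k V = 8) : False := by
  have h2 := two_ne h11
  have hL := L0_ne_bot h2 hd
  obtain ⟨u, hu, hu0⟩ := Submodule.exists_mem_ne_zero_of_ne_bot hL
  have h1 := finrank_eq (R := R) h2
  have hpos : finrank k (L0 R) ≠ 0 := by
    intro h0
    exact hL (Submodule.finrank_eq_zero.1 h0)
  have hb : finrank k (L0 R) = 1 := by omega
  have hf : finrank k (V0 R) = 1 := by omega
  obtain ⟨v0, hv0, c, hw⟩ := exists_coord h2 hu hu0 hb (R w u)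
  obtain ⟨l, hl0, hl⟩ := exists_y hb hu hu0
  by_cases hz : v0 = 0
  · rw [hz, zero_add] at hw
    have h3 := vec_invariant hu hw
    let L : Submodule k V := Submodule.span k (Set.range fun i => sh R i u)
    have hLr : ∀ v, v ∈ L ↔ v ∈ Set.range (vec R u) := by
      intro v
      rw [Submodule.mem_span_range_iff_exists_fun]
      exact Iff.rfl
    have h4 := hirr L (fun g v hv => (hLr _).2 (h3 g v ((hLr v).1 hv)))
    rcases h4 with h4 | h4
    · apply hu0
      have h5 : u ∈ L := (hLr u).2 ⟨_, vec_single u⟩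
      rw [h4] at h5
      exact (Submodule.mem_bot k).1 h5
    · have h5 : finrank k L ≤ 7 := by
        have := finrank_range_le_card (R := k) fun i : Fin 7 => sh R i u
        rwa [Fintype.card_fin] at this
      rw [h4, finrank_top, hn] at h5
      omega
  -- `x` fixes `v0`
  have hspan : ∀ v ∈ V0 R, ∃ t : k, v = t • v0 := by
    intro v hv
    have hne : (⟨v0, hv0⟩ : V0 R) ≠ 0 := fun h => hz (congrArg Subtype.val h)
    obtain ⟨t, ht⟩ := (finrank_eq_one_iff_of_nonzero' (⟨v0, hv0⟩ : V0 R) hne).1 hf ⟨v, hv⟩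
    exact ⟨t, (congrArg Subtype.val ht).symm⟩
  obtain ⟨m, hm⟩ := hspan _ (x_V0 hv0)
  obtain ⟨ν, hν⟩ := hspan _ (y_V0 hv0)
  have hν0 : ν ≠ 0 := by
    rintro rfl
    rw [zero_smul] at hν
    apply hz
    rw [← R_inv (R := R) y v0, hν, map_zero]
  have hpow : ∀ n : ℕ, R (x ^ n) v0 = m ^ n • v0 := by
    intro n
    induction n with
    | zero => rw [pow_zero, map_one, pow_zero, one_smul]; rfl
    | succ n ih => rw [pow_succ, R_mul, hm, map_smul, ih, smul_smul, pow_succ, mul_comm]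
  have hm7 : m ^ (7:ℕ) = 1 := by
    have h3 := hpow 7
    rw [x_pow_seven, map_one] at h3
    have h4 : (m ^ (7:ℕ) - 1) • v0 = 0 := by
      rw [sub_smul, one_smul, ← h3]
      exact sub_self _
    exact sub_eq_zero.1 ((smul_eq_zero.1 h4).resolve_right hz)
  have hm4 : m = m ^ (4:ℕ) := by
    have h3 := congrArg (fun g => R g v0) y_x
    simp only [R_mul] at h3
    rw [hm, map_smul, hν, map_smul, hpow, smul_smul, smul_smul] at h3
    have h4 : (m * ν - ν * m ^ (4:ℕ)) • v0 = 0 := by rw [sub_smul, h3, sub_self]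
    have h5 := sub_eq_zero.1 ((smul_eq_zero.1 h4).resolve_right hz)
    rw [mul_comm m ν] at h5
    exact mul_left_cancel₀ hν0 h5
  have hm1 : m = 1 := by
    have h3 : m ≠ 0 := by
      rintro rfl
      norm_num at hm7
    have h4 : m ^ (3:ℕ) = 1 := by
      have h5 : m * m ^ (3:ℕ) = m * 1 := by
        rw [mul_one]
        nth_rewrite 3 [hm4]
        ring
      exact mul_left_cancel₀ h3 h5
    have h5 : m ^ (7:ℕ) = (m ^ (3:ℕ)) ^ (2:ℕ) * m := by ring
    rw [h4, hm7] at h5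
    rw [one_pow, one_mul] at h5
    exact h5.symm
  have hx : R x v0 = v0 := by rw [hm, hm1, one_smul]
  -- `w v0`
  obtain ⟨v1, hv1, g, hg⟩ := exists_coord h2 hu hu0 hb (R w v0)
  have hfix : R x (R w v0) = R w v0 := by
    have h3 : x * w = w * x⁻¹ := w_x.symm
    have h4 : R x⁻¹ v0 = v0 := by
      have h5 := R_inv (R := R) x v0
      rwa [hx] at h5
    rw [← R_mul, h3, R_mul, h4]
  rw [hg] at hfix
  obtain ⟨-, hgc⟩ := const_of_fixed h2 hu hu0 hv1 hfix
  obtain ⟨t, ht⟩ := hspan v1 hv1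
  obtain ⟨z, hz'⟩ : ∃ z, g 0 = z := ⟨_, rfl⟩
  rw [hz'] at hgc
  rw [hgc, ht] at hg
  have h4 := c_four h2 hu hu0 hv0 hw hl0 hl
  clear hirr hL hb hf hspan hfix hgc hz' ht hm hpow hm7 hm4 hm1 hν hv1 h1 hpos
  exact eight_aux h11 hu hu0 hv0 hz hw hx hg h4

end Cfsg.Agent.H179.JOne
end

-- part: H179/JoneK
section
/-!
# `J₁`, odd characteristic `≠ 7`: no irreducible representation of degree `9 ≤ n ≤ 12` (helper179)
-/

set_option autoImplicit false
set_option linter.unusedSectionVars false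

namespace Cfsg.Agent.H179.JOne

open Cfsg.Spor (jankoX jankoY J1)
open Cfsg.Agent.SporadicB.J1.Main
open Module

/-- generation by `x`, `2³` and `w 2³ w` -/
theorem closure_eq_top' {K : Subgroup J1} (hx : x ∈ K) (hD : ∀ i, D i ∈ K) (hw : ∀ i, w * D i * w ∈ K) : K = ⊤ := by
  have hY : w * D 4 * w * D 3 * (w * D 4 * w * D 3) = Y := by
    have h1 : w * D 4 * w * D 3 * (w * D 4 * w * D 3) =
        ew (([2] ++ (wD 4 ++ ([2] ++ wD 3))) ++ ([2] ++ (wD 4 ++ ([2] ++ wD 3)))) := by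
      rw [ew_append, ew_append, ew_append, ew_append]
      change _ = (w * 1 * (_ * (w * 1 * _))) * (w * 1 * (_ * (w * 1 * _)))
      simp only [mul_one, mul_assoc]
      rfl
    have h2 : Y = ev [1] := by
      change Y = Y * 1
      rw [mul_one]
    rw [h1, ew_eq, h2]
    exact (rep_ev _).eq (rep_ev _) (by decide +kernel)
  have hY' : Y ∈ K := by
    rw [← hY]
    exact mul_mem (mul_mem (hw 4) (hD 3)) (mul_mem (hw 4) (hD 3))
  have hX : X ∈ K := by rw [← x_eq]; exact hx
  have h1 : (Subgroup.closure {jankoX, jankoY}) ≤ K.map J1.subtype := by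
    rw [Subgroup.closure_le]
    rintro g (rfl | rfl)
    · exact ⟨X, hX, rfl⟩
    · exact ⟨Y, hY', rfl⟩
  rw [eq_top_iff]
  rintro ⟨g, hg⟩ -
  obtain ⟨k, hk, hkg⟩ := h1 hg
  have h2 : k = ⟨g, hg⟩ := Subtype.ext hkg
  rwa [← h2]

variable {k : Type*} [Field k] {V : Type*} [AddCommGroup V] [Module k V] {R : J1 →* Module.End k V}

/-- a vector fixed by `x`, `2³`, `w 2³ w` spans an invariant line -/
theorem fixed_kill [FiniteDimensional k V]
    (hirr : ∀ L : Submodule k V, (∀ g, ∀ v ∈ L, R g v ∈ L) → L = ⊥ ∨ L = ⊤) (hn : 2 ≤ finrank k V) {v : V} (hv : v ∈ V0 R)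
    (hx : R x v = v) (hw : R w v ∈ V0 R) : v = 0 := by
  by_contra hv0
  let K : Subgroup J1 :=
    { carrier := {g | R g v = v}
      one_mem' := by
        change R 1 v = v
        rw [map_one]
        rfl
      mul_mem' := by
        intro a b ha hb
        change R (a * b) v = v
        rw [R_mul]
        change R a v = v at ha
        change R b v = v at hb
        rw [hb, ha]
      inv_mem' := by
        intro a ha
        change R a⁻¹ v = v
        change R a v = v at ha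
        conv_lhs => rw [← ha]
        exact R_inv a v }
  have hK : K = ⊤ := by
    refine closure_eq_top' hx hv ?_
    intro i
    change R (w * D i * w) v = v
    rw [R_mul, R_mul, hw i, ← R_mul, w_sq, map_one]
    rfl
  have hfix : ∀ g, R g v = v := fun g => (hK ▸ Subgroup.mem_top g : g ∈ K)
  have h1 := hirr (Submodule.span k {v}) (by
    intro g u hu
    obtain ⟨t, rfl⟩ := Submodule.mem_span_singleton.1 hu
    rw [map_smul, hfix]
    exact hu)
  rcases h1 with h1 | h1
  · exact hv0 ((Submodule.mem_bot k).1 (h1 ▸ Submodule.mem_span_singleton_self v))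
  · have h2 : finrank k (Submodule.span k {v}) = 1 := finrank_span_singleton hv0
    rw [h1, finrank_top] at h2
    omega

/-- if `x` is trivial on `V0` and `dim V0 ≥ 2` -/
theorem kill_of_trivial [FiniteDimensional k V] (h2 : (2 : k) ≠ 0)
    (hirr : ∀ L : Submodule k V, (∀ g, ∀ v ∈ L, R g v ∈ L) → L = ⊥ ∨ L = ⊤) (hn : 2 ≤ finrank k V) {u : V} (hu : u ∈ L0 R)
    (hu0 : u ≠ 0) (hb : finrank k (L0 R) = 1) (hf : 2 ≤ finrank k (V0 R)) (hx : ∀ v ∈ V0 R, R x v = v) : False := by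
  let Z : V0 R →ₗ[k] L0 R :=
    { toFun := fun v => ⟨A R (R w v.1), A_mem _⟩
      map_add' := fun a b => Subtype.ext (by
        change A R (R w (a.1 + b.1)) = _
        rw [map_add, A_add]
        rfl)
      map_smul' := fun c a => Subtype.ext (by
        change A R (R w (c • a.1)) = _
        rw [map_smul, A_smul]
        rfl) }
  have h1 : LinearMap.ker Z ≠ ⊥ := LinearMap.ker_ne_bot_of_finrank_lt (by omega)
  obtain ⟨v, hv, hv0⟩ := Submodule.exists_mem_ne_zero_of_ne_bot h1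
  have hv' : A R (R w v.1) = 0 := congrArg Subtype.val hv
  obtain ⟨v1, hv1, g, hg⟩ := exists_coord h2 hu hu0 hb (R w v.1)
  have hfix : R x (R w v.1) = R w v.1 := by
    have h3 : x * w = w * x⁻¹ := w_x.symm
    have h4 : R x⁻¹ v.1 = v.1 := by
      have h5 := R_inv (R := R) x v.1
      rwa [hx v.1 v.2] at h5
    rw [← R_mul, h3, R_mul, h4]
  rw [hg] at hfix
  obtain ⟨-, hgc⟩ := const_of_fixed h2 hu hu0 hv1 hfix
  rw [hg, A_add, A_V0 hv1, zero_add] at hv'
  have h6 : A R (vec R u g) = (8 : k) • (g 0 • u) := by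
    have h7 := A_x_sum (R := R) (c := fun j => g j • u) (fun j => (L0 R).smul_mem _ hu) 0
    rw [show x ^ (0 : Fin 7).val = 1 from pow_zero x, map_one] at h7
    simp only [sh_smul] at h7
    exact h7
  rw [h6] at hv'
  have h8 := (smul_eq_zero.1 ((smul_eq_zero.1 hv').resolve_left (eight_ne h2))).resolve_right hu0
  rw [h8] at hgc
  have h9 : R w v.1 = v1 := by
    rw [hg, hgc, vec]
    simp
  have h10 := fixed_kill hirr hn v.2 (hx v.1 v.2) (by rw [h9]; exact hv1)
  exact hv0 (Subtype.ext h10)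

theorem hrel : ew [0, 2, 4, 4] = ew [2, 4, 4, 0, 0, 0] := ew_rel (by decide +kernel)

/-- the element of order 6 -/
def hh : J1 := w * (y * y)

theorem x_hh : x * hh = hh * (x * (x * x)) := by
  have h := hrel
  change x * (w * (y * (y * 1))) = w * (y * (y * (x * (x * (x * 1))))) at h
  rw [mul_one, mul_one] at h
  rw [hh, h]
  simp only [mul_assoc]

theorem x_hh_apply {v : V} {η : k} (hx : R x v = η • v) : R x (R hh v) = η ^ (3:ℕ) • R hh v := by
  rw [← R_mul, x_hh, R_mul, R_mul, R_mul]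
  simp only [hx, map_smul, smul_smul]
  congr 1
  ring

/-- eigenvectors of `x` in the span of the frame -/
theorem eig_frame {f : Fin 7 → k} (h2 : (2 : k) ≠ 0) {u : V} (hu : u ∈ L0 R) (hu0 : u ≠ 0) {η : k} {v0 : V}
    (hv0 : v0 ∈ V0 R) (h : R x (v0 + vec R u f) = η • (v0 + vec R u f)) :
    R x v0 = η • v0 ∧ f = fun i => f 0 * η ^ i.val := by
  rw [map_add, x_vec, smul_add] at h
  have h3 : η • vec R u f = vec R u fun i => η * f i := by
    unfold vec
    rw [Finset.smul_sum]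
    exact Finset.sum_congr rfl fun i _ => smul_smul _ _ _
  rw [h3] at h
  obtain ⟨h1, h4⟩ := vec_injective h2 hu hu0 (x_V0 hv0) ((V0 R).smul_mem η hv0) h
  refine ⟨h1, ?_⟩
  have h5 : ∀ i, f (i + 1) = η * f i := fun i => congrFun h4 i
  funext i
  have e1 := h5 0
  have e2 := h5 1
  have e3 := h5 2
  have e4 := h5 3
  have e5 := h5 4
  have e6 := h5 5
  simp only [Fin.isValue, zero_add, Fin.reduceAdd] at e1 e2 e3 e4 e5 e6
  have r1 : f 1 = f 0 * η ^ (1:ℕ) := by rw [e1]; ring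
  have r2 : f 2 = f 0 * η ^ (2:ℕ) := by rw [e2, r1]; ring
  have r3 : f 3 = f 0 * η ^ (3:ℕ) := by rw [e3, r2]; ring
  have r4 : f 4 = f 0 * η ^ (4:ℕ) := by rw [e4, r3]; ring
  have r5 : f 5 = f 0 * η ^ (5:ℕ) := by rw [e5, r4]; ring
  have r6 : f 6 = f 0 * η ^ (6:ℕ) := by rw [e6, r5]; ring
  fin_cases i
  · exact (by rw [pow_zero, mul_one] : f 0 = f 0 * η ^ (0:ℕ))
  · exact r1
  · exact r2
  · exact r3
  · exact r4
  · exact r5
  · exact r6

theorem vec_eig {u : V} {η : k} (h7 : η ^ (7:ℕ) = 1) : R x (vec R u fun i => η ^ i.val) = η • vec R u fun i => η ^ i.val := by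
  rw [x_vec]
  unfold vec
  rw [Finset.smul_sum]
  refine Finset.sum_congr rfl fun i _ => ?_
  rw [smul_smul]
  congr 1
  fin_cases i
  · simp
  · change η ^ (2:ℕ) = η * η ^ (1:ℕ)
    ring
  · change η ^ (3:ℕ) = η * η ^ (2:ℕ)
    ring
  · change η ^ (4:ℕ) = η * η ^ (3:ℕ)
    ring
  · change η ^ (5:ℕ) = η * η ^ (4:ℕ)
    ring
  · change η ^ (6:ℕ) = η * η ^ (5:ℕ)
    ring
  · change η ^ (0:ℕ) = η * η ^ (6:ℕ)
    rw [pow_zero, ← pow_succ', h7]

/-- the eigenvalues of `x` on `V0` are closed under cubing -/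
theorem eig_cube (h2 : (2 : k) ≠ 0) {u : V} (hu : u ∈ L0 R)
    (hu0 : u ≠ 0) (hb : finrank k (L0 R) = 1) {η : k} (h7 : η ^ (7:ℕ) = 1) {v : V} (hv : v ∈ V0 R) (hv0 : v ≠ 0)
    (hx : R x v = η • v) : ∃ v' ∈ V0 R, v' ≠ 0 ∧ R x v' = η ^ (3:ℕ) • v' := by
  set! e : V := vec R u fun i => η ^ i.val with he
  have hxe : R x e = η • e := vec_eig h7
  -- independence of `v` and `e`
  have hind : ∀ a b : k, a • v + b • e = 0 → a = 0 ∧ b = 0 := by
    intro a b hab
    have h1 : a • v + vec R u (fun i => b * η ^ i.val) = 0 + vec R u 0 := by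
      have h3 : vec R u (fun i => b * η ^ i.val) = b • e := by
        rw [he]
        unfold vec
        rw [Finset.smul_sum]
        exact Finset.sum_congr rfl fun i _ => (smul_smul _ _ _).symm
      have h4 : vec R u (0 : Fin 7 → k) = 0 := by
        unfold vec
        simp
      rw [h3, h4, add_zero, hab]
    obtain ⟨h5, h6⟩ := vec_injective h2 hu hu0 ((V0 R).smul_mem a hv) (V0 R).zero_mem h1
    refine ⟨(smul_eq_zero.1 h5).resolve_right hv0, ?_⟩
    have h7' := congrFun h6 0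
    simpa using h7'
  -- the images under `hh`
  obtain ⟨a0, ha0, f, hf⟩ := exists_coord h2 hu hu0 hb (R hh v)
  obtain ⟨b0, hb0, g, hg⟩ := exists_coord h2 hu hu0 hb (R hh e)
  have h1 := x_hh_apply hx
  have h3 := x_hh_apply hxe
  rw [hf] at h1
  rw [hg] at h3
  obtain ⟨ha1, ha2⟩ := eig_frame h2 hu hu0 ha0 h1
  obtain ⟨hb1, hb2⟩ := eig_frame h2 hu hu0 hb0 h3
  -- a combination in `V0`
  have hcomb : ∀ a b : k, a * f 0 + b * g 0 = 0 → R hh (a • v + b • e) = a • a0 + b • b0 := by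
    intro a b hab
    rw [map_add, map_smul, map_smul, hf, hg, ha2, hb2, smul_add, smul_add]
    have h4 : a • vec R u (fun i => f 0 * (η ^ (3:ℕ)) ^ i.val) + b • vec R u (fun i => g 0 * (η ^ (3:ℕ)) ^ i.val) = 0 := by
      unfold vec
      rw [Finset.smul_sum, Finset.smul_sum, ← Finset.sum_add_distrib]
      refine Finset.sum_eq_zero fun i _ => ?_
      rw [smul_smul, smul_smul, ← add_smul]
      have h5 : a * (f 0 * (η ^ (3:ℕ)) ^ i.val) + b * (g 0 * (η ^ (3:ℕ)) ^ i.val) = 0 := by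
        linear_combination (η ^ (3:ℕ)) ^ i.val * hab
      rw [h5, zero_smul]
    rw [add_add_add_comm, h4, add_zero]
  have hfin : ∀ a b : k, a * f 0 + b * g 0 = 0 → (a ≠ 0 ∨ b ≠ 0) → ∃ v' ∈ V0 R, v' ≠ 0 ∧ R x v' = η ^ (3:ℕ) • v' := by
    intro a b hab hne
    refine ⟨a • a0 + b • b0, (V0 R).add_mem ((V0 R).smul_mem _ ha0) ((V0 R).smul_mem _ hb0), ?_, ?_⟩
    · intro h0
      rw [← hcomb a b hab] at h0
      have h6 : a • v + b • e = 0 := by
        rw [← R_inv (R := R) hh (a • v + b • e), h0, map_zero]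
      obtain ⟨h8, h9⟩ := hind a b h6
      rcases hne with h | h
      · exact h h8
      · exact h h9
    · rw [map_add, map_smul, map_smul, ha1, hb1, smul_add, smul_comm, smul_comm b]
  by_cases hf0 : f 0 = 0
  · exact hfin 1 0 (by rw [hf0]; ring) (Or.inl one_ne_zero)
  · exact hfin (g 0) (-f 0) (by ring) (Or.inr (neg_ne_zero.2 hf0))

/-- `x` acts trivially on `V0` if `dim V0 ≤ 5` -/
theorem x_trivial [IsAlgClosed k] [FiniteDimensional k V] (h2 : (2 : k) ≠ 0) (h7 : (7 : k) ≠ 0) {u : V} (hu : u ∈ L0 R)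
    (hu0 : u ≠ 0) (hb : finrank k (L0 R) = 1) (hf : finrank k (V0 R) ≤ 5) : ∀ v ∈ V0 R, R x v = v := by
  by_contra hcon
  push Not at hcon
  obtain ⟨v, hv, hvx⟩ := hcon
  -- an eigenvector with eigenvalue `≠ 1`
  obtain ⟨η, v', hv', hv0', hx', hη⟩ : ∃ (η : k) (v' : V), v' ∈ V0 R ∧ v' ≠ 0 ∧ R x v' = η • v' ∧ η ≠ 1 := by
    let L : Submodule k V := (V0 R).map (R x - 1)
    have hL : Set.MapsTo (R x) L L := by
      rintro _ ⟨a, ha, rfl⟩
      refine ⟨R x a, x_V0 ha, ?_⟩
      rw [LinearMap.sub_apply, LinearMap.sub_apply, map_sub]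
      rfl
    have hne : Nontrivial L := by
      rw [Submodule.nontrivial_iff_ne_bot]
      intro h0
      have h3 : (R x - 1) v ∈ L := ⟨v, hv, rfl⟩
      rw [h0, Submodule.mem_bot, LinearMap.sub_apply, sub_eq_zero] at h3
      exact hvx h3
    obtain ⟨η, hη⟩ := Module.End.exists_eigenvalue ((R x).restrict hL)
    obtain ⟨⟨v', hv'⟩, hev⟩ := hη.exists_hasEigenvector
    have h3 : R x v' = η • v' := congrArg Subtype.val hev.apply_eq_smul
    have h4 : v' ≠ 0 := fun h => hev.2 (Subtype.ext h)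
    obtain ⟨a, ha, hav⟩ := hv'
    have hav' : R x a - a = v' := hav
    refine ⟨η, v', ?_, h4, h3, ?_⟩
    · rw [← hav']
      exact (V0 R).sub_mem (x_V0 ha) ha
    · rintro rfl
      rw [one_smul] at h3
      have h5 : ∀ n : ℕ, R (x ^ n) a = a + (n : k) • v' := by
        intro n
        induction n with
        | zero => rw [pow_zero, map_one, Nat.cast_zero, zero_smul, add_zero]; rfl
        | succ n ih =>
          rw [pow_succ', R_mul, ih, map_add, map_smul, h3, Nat.cast_succ, add_smul, one_smul, ← hav']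
          abel
      have h6 := h5 7
      rw [x_pow_seven, map_one] at h6
      have h8 : ((7 : ℕ) : k) • v' = 0 := by
        have h9 : a + 0 = a + ((7 : ℕ) : k) • v' := by rw [add_zero]; exact h6
        exact (add_left_cancel h9).symm
      rcases smul_eq_zero.1 h8 with h9 | h9
      · exact h7 (by exact_mod_cast h9)
      · exact h4 h9
  have hη7 : η ^ (7:ℕ) = 1 := by
    have h5 : ∀ n : ℕ, R (x ^ n) v' = η ^ n • v' := by
      intro n
      induction n with
      | zero => rw [pow_zero, map_one, pow_zero, one_smul]; rfl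
      | succ n ih => rw [pow_succ', R_mul, ih, map_smul, hx', smul_smul, pow_succ]
    have h6 := h5 7
    rw [x_pow_seven, map_one] at h6
    have h8 : (η ^ (7:ℕ) - 1) • v' = 0 := by
      rw [sub_smul, one_smul, ← h6]
      exact sub_self _
    exact sub_eq_zero.1 ((smul_eq_zero.1 h8).resolve_right hv0')
  have hchain : ∀ n : ℕ, ∃ a ∈ V0 R, a ≠ 0 ∧ R x a = η ^ (3 ^ n) • a := by
    intro n
    induction n with
    | zero => exact ⟨v', hv', hv0', by rw [pow_zero, pow_one]; exact hx'⟩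
    | succ n ih =>
      obtain ⟨a, ha, ha0, hax⟩ := ih
      have h5 : (η ^ (3:ℕ) ^ n) ^ (7:ℕ) = 1 := by rw [← pow_mul, mul_comm, pow_mul, hη7, one_pow]
      obtain ⟨b, hb1, hb2, hb3⟩ := eig_cube h2 hu hu0 hb h5 ha ha0 hax
      refine ⟨b, hb1, hb2, ?_⟩
      rw [hb3, ← pow_mul, pow_succ]
  choose a ha ha0 hax using hchain
  have hp7 : Fact (Nat.Prime 7) := ⟨by norm_num⟩
  have hord : orderOf η = 7 := orderOf_eq_prime hη7 hη
  have hfo : IsOfFinOrder η := isOfFinOrder_iff_pow_eq_one.2 ⟨7, by norm_num, hη7⟩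
  have hinj : Function.Injective fun n : Fin 6 => η ^ (3:ℕ) ^ n.val := by
    intro m n hmn
    have h5 : 3 ^ m.val % 7 = 3 ^ n.val % 7 := by
      have h6 := hfo.pow_eq_pow_iff_modEq.1 hmn
      rwa [hord] at h6
    revert h5
    clear hmn
    revert m n
    decide
  have hlin : LinearIndependent k fun n : Fin 6 => a n.val :=
    Module.End.eigenvectors_linearIndependent' (R x) (fun n : Fin 6 => η ^ (3:ℕ) ^ n.val) hinj (fun n => a n.val)
      fun n => ⟨Module.End.mem_eigenspace_iff.2 (hax n.val), ha0 n.val⟩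
  have hlin' : LinearIndependent k fun n : Fin 6 => (⟨a n.val, ha n.val⟩ : V0 R) :=
    LinearIndependent.of_comp (V0 R).subtype hlin
  have h9 := hlin'.fintype_card_le_finrank
  rw [Fintype.card_fin] at h9
  omega

/-- **degrees 9, ..., 12 are impossible** (odd characteristic `≠ 7`) -/
theorem nine_le [IsAlgClosed k] [FiniteDimensional k V] (h2 : (2 : k) ≠ 0) (h7 : (7 : k) ≠ 0) (hd : R d ≠ 1)
    (hirr : ∀ L : Submodule k V, (∀ g, ∀ v ∈ L, R g v ∈ L) → L = ⊥ ∨ L = ⊤) (h9 : 9 ≤ finrank k V)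
    (h12 : finrank k V ≤ 12) : False := by
  have hL := L0_ne_bot h2 hd
  obtain ⟨u, hu, hu0⟩ := Submodule.exists_mem_ne_zero_of_ne_bot hL
  have h1 := finrank_eq (R := R) h2
  have hpos : finrank k (L0 R) ≠ 0 := by
    intro h0
    exact hL (Submodule.finrank_eq_zero.1 h0)
  have hb : finrank k (L0 R) = 1 := by omega
  exact kill_of_trivial h2 hirr (by omega) hu hu0 hb (by omega) (x_trivial h2 h7 hu hu0 hb (by omega))

end Cfsg.Agent.H179.JOne
end

-- part: H179/JoneL
section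
/-!
# `J₁`, characteristic 11, degree at most 12: the degree is 7 (helper179)

* `j1_le12` : `Core P`, `Soc P ≃* J₁`, characteristic 11, `card ι ≤ 12` ⟹ `card ι = 7`.
* `j1_ge` : (odd characteristic) `7 ≤ card ι`; `j1_nine` : not `9 ≤ card ι ≤ 12` (odd characteristic `≠ 7`).
-/

set_option autoImplicit false
set_option linter.unusedSectionVars false

namespace Cfsg.Agent.H179.JOne

open Cfsg.Spor (jankoX jankoY J1)
open Module Cfsg.Geo Cfsg.Agent.H915.LD

universe u v

variable {ι : Type} [Fintype ι] [DecidableEq ι] {F : Type u} [Field F] {P : Subgroup (Matrix.GeneralLinearGroup ι F)}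

/-- the hypotheses of the linear part, over any extension field -/
theorem exists_rep (hC : Core P) (e : Soc P ≃* J1) (K : Type v) [Field K] [Algebra F K] :
    ∃ R : J1 →* Module.End K (ι → K), R d ≠ 1 ∧
      ∀ L : Submodule K (ι → K), (∀ g, ∀ v ∈ L, R g v ∈ L) → L = ⊥ ∨ L = ⊤ := by
  obtain ⟨φ, hs, hφ⟩ := exists_hom hC e
  have hr : (P.subtype.comp φ).range = P := by
    ext g
    constructor
    · rintro ⟨j, rfl⟩
      exact (φ j).2
    · intro hg
      obtain ⟨j, hj⟩ := hs ⟨g, hg⟩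
      exact ⟨j, congrArg Subtype.val hj⟩
  refine ⟨H659.Ac.rp K (P.subtype.comp φ), ?_, fun L hL =>
    H659.Ac.rp_irr (K := K) (φ := P.subtype.comp φ) (hφ := hr) (hs := H920.span_eq_top hC.absIrred) L hL⟩
  intro h
  have h1 : ((φ d : P) : Matrix.GeneralLinearGroup ι F) = 1 := by
    apply Units.ext
    have h2 : (((φ d : P) : Matrix.GeneralLinearGroup ι F) : Matrix ι ι F).map (algebraMap F K) = 1 := by
      apply Matrix.toLin'.injective
      rw [Matrix.toLin'_one]
      exact h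
    ext i j
    apply (algebraMap F K).injective
    have h3 := congrFun (congrFun h2 i) j
    rw [Matrix.map_apply] at h3
    rw [h3, Units.val_one, Matrix.one_apply, Matrix.one_apply]
    split_ifs <;> simp
  have h2 : φ d = 1 := Subtype.ext h1
  have h3 := hφ d
  rw [h2, map_one] at h3
  apply d_ne
  change d * 1 = 1
  rw [mul_one, ← h3]

theorem j1_ge (hC : Core P) (e : Soc P ≃* J1) (h2 : (2 : F) ≠ 0) : 7 ≤ Fintype.card ι := by
  obtain ⟨R, hd, -⟩ := exists_rep hC e F
  have h1 := finrank_eq (R := R) h2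
  have hL := L0_ne_bot h2 hd
  have hpos : finrank F (L0 R) ≠ 0 := fun h0 => hL (Submodule.finrank_eq_zero.1 h0)
  rw [finrank_fintype_fun_eq_card] at h1
  omega

theorem j1_nine (hC : Core P) (e : Soc P ≃* J1) (h2 : (2 : F) ≠ 0) (h7 : (7 : F) ≠ 0) (h9 : 9 ≤ Fintype.card ι)
    (h12 : Fintype.card ι ≤ 12) : False := by
  obtain ⟨R, hd, hirr⟩ := exists_rep hC e (AlgebraicClosure F)
  have hc : ∀ n : ℕ, (n : F) ≠ 0 → (n : AlgebraicClosure F) ≠ 0 := by
    intro n hn h
    apply hn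
    apply (algebraMap F (AlgebraicClosure F)).injective
    rw [map_natCast, h, map_zero]
  refine nine_le (R := R) (by exact_mod_cast hc 2 (by exact_mod_cast h2)) (by exact_mod_cast hc 7 (by exact_mod_cast h7))
    hd hirr ?_ ?_
  · rwa [finrank_fintype_fun_eq_card]
  · rwa [finrank_fintype_fun_eq_card]

/-- **`J₁`, characteristic 11** -/
theorem j1_le12 (hC : Core P) (e : Soc P ≃* J1) (h11 : (11 : F) = 0) (h12 : Fintype.card ι ≤ 12) :
    Fintype.card ι = 7 := by
  have h2 := two_ne h11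
  have h7 : (7 : F) ≠ 0 := by
    intro h
    have h1 : (1 : F) = 2 * 11 - 3 * 7 := by norm_num
    rw [h11, h] at h1
    simp at h1
  have h3 := j1_ge hC e h2
  by_contra hne
  by_cases h8 : Fintype.card ι = 8
  · obtain ⟨R, hd, hirr⟩ := exists_rep hC e F
    exact eight h11 hd hirr (by rw [finrank_fintype_fun_eq_card, h8])
  · exact j1_nine hC e h2 h7 (by omega) h12

theorem j1_le12_iso (hC : Core P) (h : Cfsg.Spor.IsoJ1 (Soc P)) (h11 : (11 : F) = 0) (h12 : Fintype.card ι ≤ 12) :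
    Fintype.card ι = 7 := by
  obtain ⟨e⟩ := h
  exact j1_le12 hC e h11 h12

end Cfsg.Agent.H179.JOne
end

private theorem dce_8403477767eb : _root_.True := by
  try have : _root_.True := by simp only [_root_.Cfsg.Agent.H179.JOne.bs.eq_1]
  try have : _root_.True := by simp only [_root_.Cfsg.Agent.H179.JOne.s.eq_1]
  try have : _root_.True := by simp only [_root_.Cfsg.Agent.H179.JOne.vec.eq_1]
  try have : _root_.True := by simp only [_root_.Cfsg.Agent.H179.JOne.tt.eq_1]
  try have : _root_.True := by simp only [_root_.Cfsg.Agent.H179.JOne.bs.congr_simp]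
  try have : _root_.True := by simp only [_root_.Cfsg.Agent.H179.JOne.T3.eq_1]
  try have : _root_.True := by simp only [_root_.Cfsg.Agent.H179.JOne.hh.eq_1]
  try have : _root_.True := by simp only [_root_.Cfsg.Agent.H179.JOne.f3.eq_1]
  try have : _root_.True := by simp only [_root_.Cfsg.Agent.H179.JOne.sh.eq_1]
  try have : _root_.True := by simp only [_root_.Cfsg.Agent.H179.JOne.th.eq_1]
  exact _root_.True.intro
end
end
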