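import Mathlib
import Cfsg.Agent.LieClassical.OrthTrans
import Cfsg.Agent.LieClassical.OrthFinite
import Cfsg.Agent.H637.SevenA8_m3
import Cfsg.Agent.StandardComponent.AltAut
import Cfsg.Agent.S0765
import Cfsg.Agent.ClassicalGeometry.SympBasic
import Cfsg.Agent.H637.JW
import Cfsg.Agent.H856.Tri
import Cfsg.Prelude
import Cfsg.Agent.FastGrp
import Cfsg.Agent.Prune
set_option linter.all false

section
prune_inst 0x7fffe8fdfbbc79dfdfff7e7fa79ecffdffbbbfffe6fffdcbffe0edff2b9f7f90cfc5fbaf8fea12fe1ff6e21410f87b53ffffffffe26ff87ffffdbff41ffbff8ffdf7b508519d9cb41fbc2fff03f0778e7f3fffffffffffffffffffffffffffbeffbdffffffff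

-- part: H856/Sv3
section
prune_inst 0x302004386202000000000010000004400000000000000000200904080020020040000006100400108680800000000000000010002000000000000000050020800052042200a004040009800000000000000000000000000000000000000000200000000
set_option linter.all false
open scoped Cfsg.Agent.FastGrp

-- part: H856/Sv1
section
/-!
# The deleted permutation module of degree 8 in dimension 7

`Fr8 u` : eight vectors of a 7-dimensional space with sum 0 and no other relation.
`pm` : the action of `Perm (Fin 8)`; `Inv8` : a quadratic form with constant products.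
-/

set_option autoImplicit false
set_option linter.unusedSectionVars false

open scoped Pointwise

namespace Cfsg.Agent.H856.Sv

open Equiv QuadraticMap Cfsg.Agent.LieClassical.OrthCore Cfsg.Agent.LieClassical.OrthTrans

variable {F : Type*} [Field F] {V : Type*} [AddCommGroup V] [Module F V]

/-- eight vectors whose only relation is that their sum is 0 -/
structure Fr8 (F : Type*) [Field F] {V : Type*} [AddCommGroup V] [Module F V] (u : Fin 8 → V) : Prop where
  sum : ∑ i, u i = 0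
  rel : ∀ x : Fin 8 → F, ∑ i, x i • u i = 0 → ∀ i j, x i = x j

namespace Fr8

variable {u : Fin 8 → V} (hu : Fr8 F u)

include hu

theorem li : LinearIndependent F (fun j : Fin 7 => u j.castSucc) := by
  rw [Fintype.linearIndependent_iff]
  intro y hy j
  let y' : Fin 8 → F := Fin.lastCases 0 y
  have h1 : ∑ k, y' k • u k = 0 := by
    rw [Fin.sum_univ_castSucc]
    simp only [y', Fin.lastCases_castSucc, Fin.lastCases_last, zero_smul, add_zero]
    exact hy
  have h2 := hu.rel y' h1 j.castSucc (Fin.last 7)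
  simp only [y'] at h2
  rwa [Fin.lastCases_castSucc, Fin.lastCases_last] at h2

theorem last_eq : u (Fin.last 7) = -∑ j : Fin 7, u j.castSucc := by
  have h := hu.sum
  rw [Fin.sum_univ_castSucc] at h
  rw [eq_neg_iff_add_eq_zero, add_comm]
  exact h

variable (h7 : Module.finrank F V = 7)

/-- the basis `u 0, ..., u 6` -/
noncomputable def basis : Module.Basis (Fin 7) F V :=
  haveI : FiniteDimensional F V := Module.finite_of_finrank_pos (by rw [h7]; norm_num)
  basisOfLinearIndependentOfCardEqFinrank hu.li (by rw [Fintype.card_fin, h7])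

theorem basis_apply (j : Fin 7) : hu.basis h7 j = u j.castSucc := by
  simp [basis]

include h7

theorem exists_lin {W : Type*} [AddCommGroup W] [Module F W] (v : Fin 8 → W) (hv : ∑ i, v i = 0) :
    ∃ L : V →ₗ[F] W, ∀ i, L (u i) = v i := by
  refine ⟨(hu.basis h7).constr F fun j => v j.castSucc, fun i => ?_⟩
  have key : ∀ j : Fin 7, (hu.basis h7).constr F (fun j => v j.castSucc) (u j.castSucc) = v j.castSucc := by
    intro j
    rw [← hu.basis_apply h7, Module.Basis.constr_basis]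
  rcases Fin.eq_castSucc_or_eq_last i with ⟨j, rfl⟩ | rfl
  · exact key j
  · rw [hu.last_eq, map_neg, map_sum]
    simp only [key]
    rw [Fin.sum_univ_castSucc] at hv
    rw [neg_eq_iff_add_eq_zero]
    exact hv

theorem span_eq : Submodule.span F (Set.range u) = ⊤ := by
  rw [eq_top_iff, ← (hu.basis h7).span_eq]
  apply Submodule.span_mono
  rintro _ ⟨j, rfl⟩
  exact ⟨_, (hu.basis_apply h7 j).symm⟩

theorem ext_lin {W : Type*} [AddCommGroup W] [Module F W] {L L' : V →ₗ[F] W} (h : ∀ i, L (u i) = L' (u i)) :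
    L = L' := by
  apply (hu.basis h7).ext
  intro j
  rw [hu.basis_apply, h]

theorem exists_sum (v : V) : ∃ x : Fin 8 → F, ∑ i, x i • u i = v := by
  have h : v ∈ Submodule.span F (Set.range u) := by rw [hu.span_eq h7]; trivial
  rw [Submodule.mem_span_range_iff_exists_fun] at h
  exact h

omit h7 in
theorem ne_zero (i : Fin 8) : u i ≠ 0 := by
  intro h
  have h1 := hu.rel (Pi.single i 1) (by
    rw [Finset.sum_eq_single i]
    · simp [h]
    · intro j _ hj
      simp [Pi.single_eq_of_ne hj]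
    · intro h; exact absurd (Finset.mem_univ i) h)
  obtain ⟨j, hj⟩ : ∃ j : Fin 8, j ≠ i := exists_ne i
  have h2 := h1 i j
  rw [Pi.single_eq_same, Pi.single_eq_of_ne hj] at h2
  exact one_ne_zero h2

/-- the action of a permutation -/
theorem exists_pm (σ : Perm (Fin 8)) : ∃ g : V ≃ₗ[F] V, ∀ i, g (u i) = u (σ i) := by
  have hs : ∀ τ : Perm (Fin 8), ∑ i, u (τ i) = 0 := fun τ => by rw [Equiv.sum_comp τ u, hu.sum]
  obtain ⟨L, hL⟩ := hu.exists_lin h7 (fun i => u (σ i)) (hs σ)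
  obtain ⟨L', hL'⟩ := hu.exists_lin h7 (fun i => u (σ⁻¹ i)) (hs σ⁻¹)
  refine ⟨LinearEquiv.ofLinearMap L L' (hu.ext_lin h7 fun i => ?_) (hu.ext_lin h7 fun i => ?_), hL⟩
  · simp [hL, hL']
  · simp [hL, hL']

omit h7 in
/-- the permutation action -/
noncomputable def pm (h7 : Module.finrank F V = 7) : Perm (Fin 8) →* (V ≃ₗ[F] V) where
  toFun σ := (hu.exists_pm h7 σ).choose
  map_one' := by
    apply LinearEquiv.toLinearMap_injective
    apply hu.ext_lin h7
    intro i
    exact (hu.exists_pm h7 1).choose_spec i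
  map_mul' σ τ := by
    apply LinearEquiv.toLinearMap_injective
    apply hu.ext_lin h7
    intro i
    have h1 := (hu.exists_pm h7 (σ * τ)).choose_spec i
    have h2 := (hu.exists_pm h7 τ).choose_spec i
    have h3 := (hu.exists_pm h7 σ).choose_spec (τ i)
    show (hu.exists_pm h7 (σ * τ)).choose (u i) =
      (hu.exists_pm h7 σ).choose ((hu.exists_pm h7 τ).choose (u i))
    rw [h1, h2, h3]
    rfl

omit h7 in
theorem pm_apply (h7 : Module.finrank F V = 7) (σ : Perm (Fin 8)) (i : Fin 8) :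
    hu.pm h7 σ (u i) = u (σ i) := (hu.exists_pm h7 σ).choose_spec i

end Fr8

/-! ### the form -/

/-- a quadratic form with constant products -/
structure Inv8 (Q : QuadraticForm F V) (u : Fin 8 → V) (b : F) : Prop where
  fr : Fr8 F u
  pol : ∀ i j, i ≠ j → polar Q (u i) (u j) = b

namespace Inv8

variable {Q : QuadraticForm F V} {u : Fin 8 → V} {b : F} (hI : Inv8 Q u b)

include hI

theorem pol_self (i : Fin 8) : polar Q (u i) (u i) = -7 * b := by
  have h1 : polar Q (u i) (∑ j, u j) = 0 := by rw [hI.fr.sum, polar_zero_right]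
  have h2 : polar Q (u i) (∑ j, u j) = ∑ j, polar Q (u i) (u j) :=
    map_sum (polarBilin Q (u i)) u Finset.univ
  rw [h2, ← Finset.add_sum_erase _ _ (Finset.mem_univ i), Finset.sum_congr rfl (fun j hj =>
    hI.pol i j (Ne.symm (Finset.ne_of_mem_erase hj))), Finset.sum_const, Finset.card_erase_of_mem (Finset.mem_univ i),
    Finset.card_univ, Fintype.card_fin, nsmul_eq_mul] at h1
  have h3 : ((8 - 1 : ℕ) : F) = 7 := by norm_num
  rw [h3] at h1
  linear_combination h1

theorem pol_perm (σ : Perm (Fin 8)) (i j : Fin 8) : polar Q (u (σ i)) (u (σ j)) = polar Q (u i) (u j) := by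
  by_cases h : i = j
  · rw [h, hI.pol_self, hI.pol_self]
  · rw [hI.pol _ _ h, hI.pol _ _ (fun h' => h (σ.injective h'))]

variable (h7 : Module.finrank F V = 7)
include h7

theorem mem_O_of {g : V ≃ₗ[F] V} (h2 : (2 : F) ≠ 0)
    (h : ∀ i j, polar Q (g (u i)) (g (u j)) = polar Q (u i) (u j)) : g ∈ O Q := by
  have h1 : ((polarBilin Q).compl₁₂ (g : V →ₗ[F] V) (g : V →ₗ[F] V)) = polarBilin Q := by
    apply hI.fr.ext_lin h7
    intro i
    apply hI.fr.ext_lin h7
    intro j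
    exact h i j
  rw [mem_O]
  intro v
  have h3 : polar Q (g v) (g v) = polar Q v v := by
    have := congrArg (fun B : LinearMap.BilinForm F V => B v v) h1
    exact this
  rw [polar_self', polar_self'] at h3
  exact mul_left_cancel₀ h2 h3

theorem pm_mem (h2 : (2 : F) ≠ 0) (σ : Perm (Fin 8)) : hI.fr.pm h7 σ ∈ O Q := by
  apply hI.mem_O_of h7 h2
  intro i j
  rw [hI.fr.pm_apply, hI.fr.pm_apply, hI.pol_perm]

theorem b_ne (hQ : Nondeg Q) : b ≠ 0 := by
  intro hb
  apply hI.fr.ne_zero 0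
  apply hQ
  intro y
  have h1 : polarBilin Q (u 0) = 0 := by
    apply hI.fr.ext_lin h7
    intro j
    show polar Q (u 0) (u j) = 0
    by_cases h : (0 : Fin 8) = j
    · rw [← h, hI.pol_self, hb, mul_zero]
    · rw [hI.pol _ _ h, hb]
  exact congrArg (fun f : V →ₗ[F] F => f y) h1

end Inv8

end Cfsg.Agent.H856.Sv
end

-- part: H856/Sv2
section
/-!
# Ω₇(q) preserves no small set of vectors

`not_preserve` : a set of fewer than `3 ^ 5` vectors, not contained in `{0}`, is not invariant under `E(Q)`, `dim V = 7`.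
-/

set_option autoImplicit false
set_option linter.unusedSectionVars false

open scoped Pointwise

namespace Cfsg.Agent.H856.Sv

open QuadraticMap Cfsg.Agent.LieClassical.OrthCore Cfsg.Agent.LieClassical.OrthTrans
open Cfsg.Agent.LieClassical.OrthFinite

variable {F : Type*} [Field F] {V : Type*} [AddCommGroup V] [Module F V]

theorem not_preserve [Finite F] {Q : QuadraticForm F V} (hQ : Nondeg Q) (h7 : Module.finrank F V = 7)
    (h2 : (2 : F) ≠ 0) {X : Set V} (hX : X.Finite) (hc : X.ncard < 243) {r : V} (hr : r ∈ X) (hr0 : r ≠ 0)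
    (hpre : ∀ g ∈ E Q, ∀ x ∈ X, g x ∈ X) : False := by
  have hfin : FiniteDimensional F V := Module.finite_of_finrank_pos (by rw [h7]; norm_num)
  have hG : Good Q := good_of_finite hQ (by rw [h7]; norm_num)
  obtain ⟨x, y, hxy⟩ := hG.exists_hyp
  obtain ⟨u, hu, hur⟩ := exists_sing_polar_one hQ hxy hr0
  have hu0 : u ≠ 0 := by
    rintro rfl
    rw [polar_zero_left] at hur
    exact zero_ne_one hur
  obtain ⟨u', huu'⟩ := exists_hyp hQ hu hu0
  let f : V →ₗ[F] F × F := (polarBilin Q u).prod (polarBilin Q u')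
  have hf : 5 ≤ Module.finrank F (LinearMap.ker f) := by
    have h1 := f.finrank_range_add_finrank_ker
    have h3 : Module.finrank F (LinearMap.range f) ≤ 2 := by
      refine (Submodule.finrank_le _).trans ?_
      rw [Module.finrank_prod, Module.finrank_self]
    omega
  have hmem : ∀ w : LinearMap.ker f, polar Q u w = 0 ∧ polar Q u' w = 0 := by
    intro w
    have h1 : f w = 0 := w.2
    exact ⟨congrArg Prod.fst h1, congrArg Prod.snd h1⟩
  have hFq : 3 ≤ Nat.card F := by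
    have hF : Fintype F := Fintype.ofFinite F
    rw [Nat.card_eq_fintype_card]
    by_contra h
    have h4 : Fintype.card F = 2 := by
      have := Fintype.one_lt_card (α := F)
      omega
    apply h2
    have h5 : ((Fintype.card F : ℕ) : F) = 0 := Nat.cast_card_eq_zero F
    rw [h4] at h5
    exact_mod_cast h5
  have hcard : 243 ≤ Nat.card (LinearMap.ker f) := by
    rw [Module.natCard_eq_pow_finrank (K := F)]
    calc 243 = 3 ^ 5 := by norm_num
      _ ≤ Nat.card F ^ 5 := Nat.pow_le_pow_left hFq 5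
      _ ≤ _ := Nat.pow_le_pow_right (by omega) hf
  let φ : LinearMap.ker f → X := fun w =>
    ⟨siegel Q u w hu (hmem w).1 r, hpre _ (siegel_mem_E hu (hmem w).1) r hr⟩
  have hφ : Function.Injective φ := by
    intro w w' hww
    have h1 : siegel Q u w hu (hmem w).1 r = siegel Q u w' hu (hmem w').1 r := congrArg Subtype.val hww
    rw [siegel_apply, siegel_apply, hur] at h1
    have h3 : ((w : V) - w') = (polar Q w r + Q w - polar Q w' r - Q w') • u := by
      have h4 : (w : V) - w' - (polar Q w r + Q w - polar Q w' r - Q w') • u =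
          (r + (1 : F) • (w : V) - polar Q w r • u - (Q w * 1) • u) -
          (r + (1 : F) • (w' : V) - polar Q w' r • u - (Q w' * 1) • u) := by module
      rw [← sub_eq_zero, h4, h1, sub_self]
    have h5 : polar Q u' ((w : V) - w') = 0 := by
      rw [polar_sub_right, (hmem w).2, (hmem w').2, sub_zero]
    rw [h3, polar_smul_right, huu'.pair', smul_eq_mul, mul_one] at h5
    rw [h5, zero_smul, sub_eq_zero] at h3
    exact Subtype.ext h3
  have := hX.to_subtype
  have h6 := Nat.card_le_card_of_injective φ hφ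
  rw [Nat.card_coe_set_eq] at h6
  omega

end Cfsg.Agent.H856.Sv
end

-- part: H856/Sv3
section
/-!
# Maximal subgroups of Ω₇(q): the setting in linear algebra terms; fixed vectors of A₇

`Max7 Q H P` : `H` is maximal in `E(Q)`, `dim V = 7`, and `P` is a normal irreducible nonabelian simple subgroup.
`Max7.mem_of_preserve` : a finite set of fewer than `3 ^ 5` vectors preserved by `H` : every element of `E(Q)` preserving it is in `H`.
-/

set_option autoImplicit false
set_option linter.unusedSectionVars false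

open scoped Pointwise

namespace Cfsg.Agent.H856.Sv

open Equiv QuadraticMap Cfsg.Agent.LieClassical.OrthCore Cfsg.Agent.LieClassical.OrthTrans
open Cfsg.Agent.LieClassical.OrthFinite

variable {F : Type*} [Field F] {V : Type*} [AddCommGroup V] [Module F V]

/-- `H` is maximal in `E(Q)` with a normal irreducible simple subgroup `P`, in dimension 7 -/
structure Max7 (Q : QuadraticForm F V) (H P : Subgroup (V ≃ₗ[F] V)) : Prop where
  finrank_eq : Module.finrank F V = 7
  two_ne : (2 : F) ≠ 0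
  nondeg : Nondeg Q
  le : H ≤ E Q
  ne : H ≠ E Q
  max : ∀ M : Subgroup (V ≃ₗ[F] V), H ≤ M → M ≤ E Q → M = H ∨ M = E Q
  PH : P ≤ H
  normal : ∀ h ∈ H, ∀ x ∈ P, h * x * h⁻¹ ∈ P
  simple : IsSimpleGroup P
  perfect : ⁅P, P⁆ = P
  irr : ∀ W : Submodule F V, (∀ g ∈ P, ∀ w ∈ W, g w ∈ W) → W = ⊥ ∨ W = ⊤
  schur : ∀ L : V →ₗ[F] V, (∀ g ∈ P, ∀ v, L (g v) = g (L v)) → ∃ c : F, ∀ v, L v = c • v
  cent : ∀ h ∈ H, (∀ x ∈ P, h * x = x * h) → h = 1

namespace Max7

variable {Q : QuadraticForm F V} {H P : Subgroup (V ≃ₗ[F] V)} (hM : Max7 Q H P)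

include hM

theorem good [Finite F] : Good Q := good_of_finite hM.nondeg (by rw [hM.finrank_eq]; norm_num)

theorem comm_eq [Finite F] : ⁅O Q, O Q⁆ = E Q := hM.good.commutator_eq_E

theorem H_le_O [Finite F] : H ≤ O Q := by
  refine hM.le.trans ?_
  rw [← hM.comm_eq]
  exact Subgroup.commutator_le.2 fun a ha b hb => (O Q).mul_mem ((O Q).mul_mem ((O Q).mul_mem ha hb)
    ((O Q).inv_mem ha)) ((O Q).inv_mem hb)

theorem finiteDim : FiniteDimensional F V :=
  Module.finite_of_finrank_pos (by rw [hM.finrank_eq]; norm_num)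

theorem pol [Finite F] {h : V ≃ₗ[F] V} (hh : h ∈ H) (x y : V) : polar Q (h x) (h y) = polar Q x y := by
  have h1 := hM.H_le_O hh
  rw [mem_O] at h1
  simp only [polar, ← map_add, h1]

/-- no vector is fixed -/
theorem no_fix {w : V} (hw : w ≠ 0) (h : ∀ g ∈ P, g w = w) : False := by
  rcases hM.irr (Submodule.span F {w}) (fun g hg v hv => by
    rw [Submodule.mem_span_singleton] at hv ⊢
    obtain ⟨c, rfl⟩ := hv
    exact ⟨c, by rw [map_smul, h g hg]⟩) with h1 | h1
  · rw [Submodule.span_singleton_eq_bot] at h1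
    exact hw h1
  · have h2 : Module.finrank F (Submodule.span F {w}) = 7 := by
      rw [h1, finrank_top, hM.finrank_eq]
    have h3 := finrank_span_singleton (K := F) hw
    omega

/-- the stabiliser of a small set of vectors is in `H` -/
theorem mem_of_preserve [Finite F] {X : Set V} (hX : X.Finite) (hc : X.ncard < 243) {r : V} (hr : r ∈ X)
    (hr0 : r ≠ 0) (hHX : ∀ h ∈ H, ∀ x ∈ X, h x ∈ X) {g : V ≃ₗ[F] V} (hg : g ∈ E Q) (hgX : ∀ x ∈ X, g x ∈ X) :
    g ∈ H := by
  have inv : ∀ k : V ≃ₗ[F] V, (∀ x ∈ X, k x ∈ X) → ∀ x ∈ X, k⁻¹ x ∈ X := by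
    intro k hk x hx
    have h1 : Set.SurjOn k X X :=
      ((hX.injOn_iff_bijOn_of_mapsTo hk).1 k.injective.injOn).surjOn
    obtain ⟨y, hy, rfl⟩ := h1 hx
    rwa [show k⁻¹ (k y) = y from k.symm_apply_apply y]
  let M : Subgroup (V ≃ₗ[F] V) :=
    { carrier := {k | k ∈ E Q ∧ ∀ x ∈ X, k x ∈ X}
      mul_mem' := fun {a b} ha hb => ⟨(E Q).mul_mem ha.1 hb.1, fun x hx => ha.2 _ (hb.2 x hx)⟩
      one_mem' := ⟨(E Q).one_mem, fun x hx => hx⟩
      inv_mem' := fun {a} ha => ⟨(E Q).inv_mem ha.1, inv a ha.2⟩ }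
  rcases hM.max M (fun h hh => ⟨hM.le hh, hHX h hh⟩) (fun k hk => hk.1) with h1 | h1
  · rw [← h1]
    exact ⟨hg, hgX⟩
  · exfalso
    refine not_preserve hM.nondeg hM.finrank_eq hM.two_ne hX hc hr hr0 fun k hk => ?_
    rw [← h1] at hk
    exact hk.2

end Max7

/-! ### Fixed vectors of `A₇` -/

open Cfsg.Agent.H637.SevenA7 Cfsg.Agent.H637.SevenA8 in
theorem a7_fixed (h7 : Module.finrank F V = 7) (σ : alternatingGroup (Fin 7) →* (V ≃ₗ[F] V)) :
    ∃ w : V, w ≠ 0 ∧ ∀ g, σ g w = w := by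
  have hfin : FiniteDimensional F V := Module.finite_of_finrank_pos (by rw [h7]; norm_num)
  let e : V ≃ₗ[F] (Fin 7 → F) := LinearEquiv.ofFinrankEq V (Fin 7 → F) (by rw [h7, Module.finrank_fin_fun])
  let c : (V ≃ₗ[F] V) →* ((Fin 7 → F) ≃ₗ[F] (Fin 7 → F)) :=
    { toFun := fun g => (e.symm.trans g).trans e
      map_one' := by
        ext x
        simp
      map_mul' := fun g h => by
        apply LinearEquiv.ext
        intro x
        show e ((g * h) (e.symm x)) = e (g (e.symm (e (h (e.symm x)))))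
        rw [e.symm_apply_apply]
        rfl }
  obtain ⟨w, hw, hfix⟩ := exists_fixed_matrix (((glEquiv (Fin 7) F).symm.toMonoidHom).comp (c.comp σ))
  refine ⟨e.symm w, fun h => hw ?_, fun g => ?_⟩
  · rw [← e.apply_symm_apply w, h, map_zero]
  · have h1 := hfix g
    have h2 : (((glEquiv (Fin 7) F).symm (c (σ g)) : Matrix.GeneralLinearGroup (Fin 7) F) :
        Matrix (Fin 7) (Fin 7) F).mulVec w = c (σ g) w := by
      rw [← glEquiv_apply, MulEquiv.apply_symm_apply]
    have h3 : c (σ g) w = w := by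
      rw [← h2]
      exact h1
    have h4 : e (σ g (e.symm w)) = w := h3
    apply e.injective
    rw [h4, e.apply_symm_apply]

/-- a homomorphism to linear automorphisms as a representation -/
def endHom {G : Type*} [Group G] (τ : G →* (V ≃ₗ[F] V)) : G →* Module.End F V where
  toFun g := (τ g : V →ₗ[F] V)
  map_one' := by rw [map_one]; rfl
  map_mul' g h := by rw [map_mul]; rfl

@[simp] theorem endHom_apply {G : Type*} [Group G] (τ : G →* (V ≃ₗ[F] V)) (g : G) (v : V) :
    endHom τ g v = τ g v := rfl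

open Cfsg.Agent.H637.SevenA7 Cfsg.Agent.H637.SevenA8 in
/-- `A₈` in dimension 7: a fixed vector or the deleted permutation module. -/
theorem a8_cases (h7 : Module.finrank F V = 7) (h2 : (2 : F) ≠ 0) (τ : alternatingGroup (Fin 8) →* (V ≃ₗ[F] V)) :
    (∃ w : V, w ≠ 0 ∧ ∀ g, τ g w = w) ∨
    ∃ u : Fin 8 → V, Fr8 F u ∧ ∀ (g : alternatingGroup (Fin 8)) i, τ g (u i) = u ((g : Perm (Fin 8)) i) := by
  have hfin : FiniteDimensional F V := Module.finite_of_finrank_pos (by rw [h7]; norm_num)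
  obtain ⟨ι, hι⟩ := exists_stab_hom 7
  obtain ⟨w, hw, hfix⟩ := a7_fixed h7 (τ.comp ι)
  obtain ⟨u, hua, hu⟩ := exists_translates (by norm_num) (endHom τ) (Fin.last 7) w (by
    intro g hg
    obtain ⟨g', rfl⟩ := hι g hg
    exact hfix g')
  rcases dichotomy (by norm_num) h2 hu (by rw [h7]; norm_num) with h | ⟨h, -, hrel⟩
  · left
    refine ⟨w, hw, fun g => ?_⟩
    have h1 := hu g (Fin.last 7)
    rw [hua, endHom_apply] at h1
    rw [h1, ← hua]
    exact h _ _
  · right
    exact ⟨u, ⟨h, hrel⟩, hu⟩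

end Cfsg.Agent.H856.Sv
end

private theorem dce_8442aa0cc578 : _root_.True := by
  try have : _root_.True := by simp only [_root_.Cfsg.Agent.H856.Sv.Fr8.basis.eq_1]
  try have : _root_.True := by simp only [_root_.Cfsg.Agent.H856.Sv.Fr8.basis.congr_simp]
  exact _root_.True.intro
end

-- part: H856/Sv8
section
prune_inst 0x14000400000000000000004000000000000000000000000002000000000000000000000000004000000000000000000000000100040000004000000000000000000000400000000000000000000000000000000000000000000000000000000000000000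
set_option linter.all false
open scoped Cfsg.Agent.FastGrp

-- part: H856/Sv4
section
/-!
# `A₈` is not the core of a maximal subgroup of Ω₇(q)
-/

set_option autoImplicit false
set_option linter.unusedSectionVars false

open scoped Pointwise

namespace Cfsg.Agent.H856.Sv

open Equiv QuadraticMap Cfsg.Agent.LieClassical.OrthCore Cfsg.Agent.LieClassical.OrthTrans
open Cfsg.Agent.LieClassical.OrthFinite

variable {F : Type*} [Field F] {V : Type*} [AddCommGroup V] [Module F V]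

theorem exists_even_pair {i j : Fin 8} (hij : i ≠ j) :
    ∃ g : alternatingGroup (Fin 8), (g : Perm (Fin 8)) 0 = i ∧ (g : Perm (Fin 8)) 1 = j := by
  revert i j
  have key : ∀ i j : Fin 8, i ≠ j → ∃ σ : Perm (Fin 8), σ 0 = i ∧ σ 1 = j := by
    intro i j hij
    refine ⟨swap 0 i * swap 1 (swap 0 i j), ?_, ?_⟩
    · have h0 : (0 : Fin 8) ≠ swap 0 i j := by
        intro h
        have h1 : swap 0 i (0 : Fin 8) = swap 0 i (swap 0 i j) := congrArg _ h
        rw [swap_apply_left, swap_apply_self] at h1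
        exact hij h1
      have h2 : swap 1 (swap 0 i j) (0 : Fin 8) = 0 := swap_apply_of_ne_of_ne (by decide) h0
      rw [Perm.mul_apply, h2, swap_apply_left]
    · rw [Perm.mul_apply, swap_apply_left, swap_apply_self]
  intro i j hij
  obtain ⟨σ, h0, h1⟩ := key i j hij
  rcases Int.units_eq_one_or (Perm.sign σ) with hs | hs
  · exact ⟨⟨σ, Perm.mem_alternatingGroup.2 hs⟩, h0, h1⟩
  · refine ⟨⟨σ * swap (2 : Fin 8) 3, Perm.mem_alternatingGroup.2 ?_⟩, ?_, ?_⟩
    · rw [Perm.sign_mul, hs, Perm.sign_swap (by decide)]; rfl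
    · show σ (swap (2 : Fin 8) 3 0) = i
      rw [swap_apply_of_ne_of_ne (by decide) (by decide), h0]
    · show σ (swap (2 : Fin 8) 3 1) = j
      rw [swap_apply_of_ne_of_ne (by decide) (by decide), h1]

theorem exists_third : ∀ i k j : Fin 8, ∃ l : Fin 8, l ≠ i ∧ l ≠ k ∧ l ≠ j := by decide +kernel

/-- the vectors fixed by a point stabiliser -/
theorem Fr8.fixed {u : Fin 8 → V} (hu : Fr8 F u) (h7 : Module.finrank F V = 7)
    {τ : alternatingGroup (Fin 8) →* (V ≃ₗ[F] V)}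
    (hτ : ∀ (g : alternatingGroup (Fin 8)) i, τ g (u i) = u ((g : Perm (Fin 8)) i)) (j : Fin 8) {v : V}
    (hv : ∀ g : alternatingGroup (Fin 8), (g : Perm (Fin 8)) j = j → τ g v = v) : ∃ c : F, v = c • u j := by
  obtain ⟨x, rfl⟩ := hu.exists_sum h7 v
  have key : ∀ g : alternatingGroup (Fin 8), (g : Perm (Fin 8)) j = j → ∀ i, x ((g : Perm (Fin 8)) i) = x i := by
    intro g hg i
    have h1 := hv g hg
    rw [map_sum] at h1
    simp only [map_smul, hτ] at h1
    have h2 : ∑ k, x k • u ((g : Perm (Fin 8)) k) = ∑ k, x ((g : Perm (Fin 8))⁻¹ k) • u k := by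
      rw [← Equiv.sum_comp (g : Perm (Fin 8)) (fun k => x ((g : Perm (Fin 8))⁻¹ k) • u k)]
      simp
    rw [h2, ← sub_eq_zero, ← Finset.sum_sub_distrib] at h1
    simp only [← sub_smul] at h1
    have h3 := hu.rel _ h1 ((g : Perm (Fin 8)) i) j
    have h4 : (g : Perm (Fin 8))⁻¹ j = j := by rw [Perm.inv_eq_iff_eq]; exact hg.symm
    rw [h4, sub_self, show (g : Perm (Fin 8))⁻¹ ((g : Perm (Fin 8)) i) = i from (g : Perm (Fin 8)).symm_apply_apply i,
      sub_eq_zero] at h3
    exact h3.symm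
  -- all coordinates different from `j` agree
  have hconst : ∀ i k : Fin 8, i ≠ j → k ≠ j → x i = x k := by
    intro i k hi hk
    by_cases hik : i = k
    · rw [hik]
    obtain ⟨l, hl⟩ := exists_third i k j
    have h1 := key ⟨swap i k * swap k l, by
      rw [Perm.mem_alternatingGroup, Perm.sign_mul, Perm.sign_swap hik, Perm.sign_swap hl.2.1.symm]; rfl⟩
      (by
        show swap i k (swap k l j) = j
        rw [swap_apply_of_ne_of_ne hk.symm hl.2.2.symm, swap_apply_of_ne_of_ne hi.symm hk.symm]) i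
    rw [← h1]
    show x (swap i k (swap k l i)) = x k
    rw [swap_apply_of_ne_of_ne hik hl.1.symm, swap_apply_left]
  obtain ⟨i0, hi0⟩ : ∃ i : Fin 8, i ≠ j := exists_ne j
  refine ⟨x j - x i0, ?_⟩
  have h1 : ∑ i, x i • u i = ∑ i, x i • u i - x i0 • ∑ i, u i := by rw [hu.sum, smul_zero, sub_zero]
  rw [h1, Finset.smul_sum, ← Finset.sum_sub_distrib]
  simp only [← sub_smul]
  rw [Finset.sum_eq_single j]
  · intro i _ hi
    rw [hconst i i0 hi hi0, sub_self, zero_smul]
  · intro h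
    exact absurd (Finset.mem_univ j) h

/-- the 126 vectors of the root system -/
def Xs (u : Fin 8 → V) : Set V :=
  {v | (∃ i j, i ≠ j ∧ v = u i - u j) ∨ ∃ S : Finset (Fin 8), S.card = 4 ∧ v = ∑ i ∈ S, u i}

theorem Xs_sub (u : Fin 8 → V) : Xs u ⊆
    (((Finset.univ : Finset (Fin 8 × Fin 8)) : Set (Fin 8 × Fin 8)).image (fun x => u x.1 - u x.2)) ∪
      ((((Finset.univ : Finset (Fin 8)).powersetCard 4 : Finset (Finset (Fin 8))) : Set (Finset (Fin 8))).image
        (fun S => ∑ i ∈ S, u i)) := by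
  rintro v (⟨i, j, -, rfl⟩ | ⟨S, hS, rfl⟩)
  · left
    exact ⟨(i, j), by simp, rfl⟩
  · right
    exact ⟨S, by simp [Finset.mem_powersetCard, hS], rfl⟩

theorem Xs_finite (u : Fin 8 → V) : (Xs u).Finite :=
  Set.Finite.subset (((Finset.finite_toSet _).image _).union ((Finset.finite_toSet _).image _)) (Xs_sub u)

theorem Xs_ncard (u : Fin 8 → V) : (Xs u).ncard < 243 := by
  refine lt_of_le_of_lt (Set.ncard_le_ncard (Xs_sub u)
    (((Finset.finite_toSet _).image _).union ((Finset.finite_toSet _).image _))) ?_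
  refine lt_of_le_of_lt (Set.ncard_union_le _ _) ?_
  have h1 := Set.ncard_image_le (f := fun x : Fin 8 × Fin 8 => u x.1 - u x.2)
    (Finset.finite_toSet (Finset.univ : Finset (Fin 8 × Fin 8)))
  have h2 := Set.ncard_image_le (f := fun S : Finset (Fin 8) => ∑ i ∈ S, u i)
    (Finset.finite_toSet ((Finset.univ : Finset (Fin 8)).powersetCard 4))
  rw [Set.ncard_coe_finset] at h1 h2
  rw [Finset.card_powersetCard] at h2
  simp only [Finset.card_univ, Fintype.card_prod, Fintype.card_fin] at h1 h2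
  have h3 : Nat.choose 8 4 = 70 := by decide
  omega

theorem Xs_perm {u : Fin 8 → V} {g : V ≃ₗ[F] V} {σ : Perm (Fin 8)} (h : ∀ i, g (u i) = u (σ i)) :
    ∀ x ∈ Xs u, g x ∈ Xs u := by
  rintro x (⟨i, j, hij, rfl⟩ | ⟨S, hS, rfl⟩)
  · left
    exact ⟨σ i, σ j, fun h' => hij (σ.injective h'), by rw [map_sub, h, h]⟩
  · right
    refine ⟨S.map σ.toEmbedding, by rw [Finset.card_map, hS], ?_⟩
    rw [map_sum, Finset.sum_map]
    exact Finset.sum_congr rfl fun i _ => h i

theorem Xs_neg {u : Fin 8 → V} (hu : Fr8 F u) : ∀ x ∈ Xs u, -x ∈ Xs u := by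
  rintro x (⟨i, j, hij, rfl⟩ | ⟨S, hS, rfl⟩)
  · left
    exact ⟨j, i, hij.symm, by rw [neg_sub]⟩
  · right
    refine ⟨Sᶜ, by rw [Finset.card_compl, hS, Fintype.card_fin], ?_⟩
    rw [neg_eq_iff_add_eq_zero, Finset.sum_add_sum_compl, hu.sum]

theorem Xs_pm {u : Fin 8 → V} (hu : Fr8 F u) {g : V ≃ₗ[F] V} {σ : Perm (Fin 8)} {c : F} (hc : c = 1 ∨ c = -1)
    (h : ∀ i, g (u i) = c • u (σ i)) : ∀ x ∈ Xs u, g x ∈ Xs u := by
  rcases hc with rfl | rfl
  · exact Xs_perm (fun i => by rw [h, one_smul])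
  · intro x hx
    have h1 := Xs_neg hu _ (Xs_perm (g := (LinearEquiv.neg F : V ≃ₗ[F] V) * g) (σ := σ) (u := u) (fun i => by
      show -(g (u i)) = _
      rw [h, neg_smul, one_smul, neg_neg]) x hx)
    rwa [show ((LinearEquiv.neg F : V ≃ₗ[F] V) * g) x = -(g x) from rfl, neg_neg] at h1

end Cfsg.Agent.H856.Sv
end

-- part: H856/Sv5
section
/-!
# `A₈` is not the core of a maximal subgroup of Ω₇(q): the conclusion
-/

set_option autoImplicit false
set_option linter.unusedSectionVars false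

open scoped Pointwise

namespace Cfsg.Agent.H856.Sv

open Equiv QuadraticMap Cfsg.Agent.LieClassical.OrthCore Cfsg.Agent.LieClassical.OrthTrans
open Cfsg.Agent.LieClassical.OrthFinite

variable {F : Type*} [Field F] {V : Type*} [AddCommGroup V] [Module F V]

namespace Max7

variable {Q : QuadraticForm F V} {H P : Subgroup (V ≃ₗ[F] V)} (hM : Max7 Q H P)

include hM

/-- the action of the normaliser -/
def cj {h : V ≃ₗ[F] V} (hh : h ∈ H) : P ≃* P where
  toFun x := ⟨h * x * h⁻¹, hM.normal h hh x x.2⟩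
  invFun x := ⟨h⁻¹ * x * h⁻¹⁻¹, hM.normal h⁻¹ (H.inv_mem hh) x x.2⟩
  left_inv x := by
    apply Subtype.ext
    show h⁻¹ * (h * x * h⁻¹) * h⁻¹⁻¹ = x
    group
  right_inv x := by
    apply Subtype.ext
    show h * (h⁻¹ * x * h⁻¹⁻¹) * h⁻¹ = x
    group
  map_mul' x y := by
    apply Subtype.ext
    show h * (x * y) * h⁻¹ = h * x * h⁻¹ * (h * y * h⁻¹)
    group

/-- `P ≅ A₈` : the elements of `H` permute the eight vectors up to sign -/
theorem a8_form [Finite F] (e : P ≃* alternatingGroup (Fin 8)) {u : Fin 8 → V} {b : F} (hI : Inv8 Q u b)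
    (hτ : ∀ (g : alternatingGroup (Fin 8)) i, ((e.symm g : P) : V ≃ₗ[F] V) (u i) = u ((g : Perm (Fin 8)) i))
    {h : V ≃ₗ[F] V} (hh : h ∈ H) :
    ∃ (σ : Perm (Fin 8)) (c : F), (c = 1 ∨ c = -1) ∧ ∀ i, h (u i) = c • u (σ i) := by
  let τ : alternatingGroup (Fin 8) →* (V ≃ₗ[F] V) := P.subtype.comp e.symm.toMonoidHom
  let e' : MulAut (alternatingGroup (Fin 8)) := e.symm.trans ((hM.cj hh).trans e)
  obtain ⟨σ, hσ⟩ := Cfsg.Agent.StandardComponent.AltAut.exists_conj (m := 6) (by norm_num) e'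
  have h1 : ∀ x : alternatingGroup (Fin 8), τ (e' x) = h * τ x * h⁻¹ := by
    intro x
    show ((e.symm (e (hM.cj hh (e.symm x))) : P) : V ≃ₗ[F] V) = _
    rw [e.symm_apply_apply]
    rfl
  have h2 : ∀ i, ∃ c : F, h (u i) = c • u (σ i) := by
    intro i
    refine hI.fr.fixed hM.finrank_eq (τ := τ) hτ (σ i) fun g hg => ?_
    obtain ⟨x, rfl⟩ := e'.surjective g
    have hx : (x : Perm (Fin 8)) i = i := by
      have h3 : ((e' x : alternatingGroup (Fin 8)) : Perm (Fin 8)) = σ * x * σ⁻¹ := hσ x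
      rw [h3] at hg
      have h4 : (σ * (x : Perm (Fin 8)) * σ⁻¹) (σ i) = σ ((x : Perm (Fin 8)) i) := by
        simp
      rw [h4] at hg
      exact σ.injective hg
    rw [h1]
    show h (τ x (h⁻¹ (h (u i)))) = h (u i)
    rw [show h⁻¹ (h (u i)) = u i from h.symm_apply_apply _]
    have h5 : τ x (u i) = u ((x : Perm (Fin 8)) i) := hτ x i
    rw [h5, hx]
  choose c hc using h2
  have h3 : ∀ i j, c i = c j := by
    have h4 : ∑ j, c (σ⁻¹ j) • u j = 0 := by
      rw [← Equiv.sum_comp σ (fun j => c (σ⁻¹ j) • u j)]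
      have h5 : ∑ i, h (u i) = 0 := by rw [← map_sum, hI.fr.sum, map_zero]
      rw [← h5]
      refine Finset.sum_congr rfl fun i _ => ?_
      rw [hc]
      simp
    intro i j
    have h6 := hI.fr.rel _ h4 (σ i) (σ j)
    simpa using h6
  refine ⟨σ, c 0, ?_, fun i => by rw [hc, h3 i 0]⟩
  have h4 := hM.pol hh (u 0) (u 1)
  rw [hc, hc, h3 1 0, polar_smul_left, polar_smul_right, smul_eq_mul, smul_eq_mul,
    hI.pol _ _ (fun h' => absurd (σ.injective h') (by decide)), hI.pol _ _ (by decide)] at h4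
  have hb := hI.b_ne hM.finrank_eq hM.nondeg
  have h5 : c 0 * c 0 = 1 := by
    apply mul_right_cancel₀ hb
    rw [one_mul, mul_assoc]
    exact h4
  exact mul_self_eq_one_iff.1 h5

end Max7

/-! ### the extra reflection -/

/-- the block -/
def B4 : Finset (Fin 8) := {0, 1, 2, 3}

theorem card_B4 : B4.card = 4 := by decide

theorem S_cases : ∀ S : Finset (Fin 8), S.card = 4 → (S ∩ B4).card = 2 ∨ S = B4 ∨ S = B4ᶜ ∨
    (∃ i ∈ B4, ∃ j ∈ B4ᶜ, S = insert j (B4.erase i)) ∨ (∃ i ∈ B4, ∃ j ∈ B4ᶜ, S = insert i (B4ᶜ.erase j)) := by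
  decide +kernel

namespace Inv8

variable {Q : QuadraticForm F V} {u : Fin 8 → V} {b : F} (hI : Inv8 Q u b)

include hI

theorem pol_w (i : Fin 8) : polar Q (∑ k ∈ B4, u k) (u i) = if i ∈ B4 then -4 * b else 4 * b := by
  have h1 : polar Q (∑ k ∈ B4, u k) (u i) = ∑ k ∈ B4, polar Q (u k) (u i) := by
    rw [polar_comm]
    have h2 : polar Q (u i) (∑ k ∈ B4, u k) = ∑ k ∈ B4, polar Q (u i) (u k) :=
      map_sum (polarBilin Q (u i)) u B4
    rw [h2]
    exact Finset.sum_congr rfl fun k _ => polar_comm _ _ _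
  rw [h1]
  have h3 : ∀ k ∈ B4, polar Q (u k) (u i) = b + if k = i then -8 * b else 0 := by
    intro k _
    by_cases h : k = i
    · rw [if_pos h, h, hI.pol_self]; ring
    · rw [if_neg h, hI.pol _ _ h, add_zero]
  rw [Finset.sum_congr rfl h3, Finset.sum_add_distrib, Finset.sum_const, card_B4, Finset.sum_ite_eq']
  by_cases h : i ∈ B4
  · rw [if_pos h, if_pos h, nsmul_eq_mul]; push_cast; ring
  · rw [if_neg h, if_neg h, nsmul_eq_mul]; push_cast; ring

theorem Q_w (h2 : (2 : F) ≠ 0) : Q (∑ k ∈ B4, u k) = -8 * b := by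
  have h1 : polar Q (∑ k ∈ B4, u k) (∑ k ∈ B4, u k) = ∑ i ∈ B4, polar Q (∑ k ∈ B4, u k) (u i) :=
    map_sum (polarBilin Q (∑ k ∈ B4, u k)) u B4
  have h3 : ∀ i ∈ B4, polar Q (∑ k ∈ B4, u k) (u i) = -4 * b := fun i hi => by rw [hI.pol_w, if_pos hi]
  rw [Finset.sum_congr rfl h3, Finset.sum_const, card_B4, polar_self', nsmul_eq_mul] at h1
  apply mul_left_cancel₀ h2
  rw [h1]
  push_cast
  ring

variable (h7 : Module.finrank F V = 7) (h2 : (2 : F) ≠ 0) (hQ : Nondeg Q)

include h7 h2 hQ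

theorem Q_w_ne : Q (∑ k ∈ B4, u k) ≠ 0 := by
  rw [hI.Q_w h2, show (-8 : F) = -(2 * 2 * 2) by norm_num]
  exact mul_ne_zero (neg_ne_zero.2 (mul_ne_zero (mul_ne_zero h2 h2) h2)) (hI.b_ne h7 hQ)

/-- the reflection -/
theorem exists_refl : ∃ r : V ≃ₗ[F] V, r ∈ O Q ∧ r * r = 1 ∧
    (∀ i ∈ B4, r (u i) = u i - (2 : F)⁻¹ • ∑ k ∈ B4, u k) ∧
    (∀ i ∉ B4, r (u i) = u i + (2 : F)⁻¹ • ∑ k ∈ B4, u k) ∧ r (∑ k ∈ B4, u k) = -∑ k ∈ B4, u k := by
  have hw := hI.Q_w_ne h7 h2 hQ
  have hb := hI.b_ne h7 hQ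
  have h4b : -4 * b ≠ 0 := by
    rw [show (-4 : F) = -(2 * 2) by norm_num]
    exact mul_ne_zero (neg_ne_zero.2 (mul_ne_zero h2 h2)) hb
  have e1 : (-8 * b)⁻¹ * (-4 * b) = (2 : F)⁻¹ := by
    rw [show (-8 * b) = 2 * (-4 * b) by ring, mul_inv, mul_assoc, inv_mul_cancel₀ h4b, mul_one]
  have e2 : (-8 * b)⁻¹ * (4 * b) = -(2 : F)⁻¹ := by
    rw [show 4 * b = -(-4 * b) by ring, mul_neg, e1]
  refine ⟨refl Q _ hw, refl_mem_O hw, refl_mul_self hw, ?_, ?_, ?_⟩
  · intro i hi
    rw [LieClassical.OrthCore.refl_apply, hI.pol_w, if_pos hi, hI.Q_w h2, e1]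
  · intro i hi
    rw [LieClassical.OrthCore.refl_apply, hI.pol_w, if_neg hi, hI.Q_w h2, e2, neg_smul, sub_neg_eq_add]
  · rw [LieClassical.OrthCore.refl_apply, polar_self']
    have h3 : (Q (∑ k ∈ B4, u k))⁻¹ * (2 * Q (∑ k ∈ B4, u k)) = 2 := by
      field_simp
    rw [h3, two_smul]
    abel

end Inv8

/-- the reflection preserves the root system -/
theorem Xs_refl {u : Fin 8 → V} (hu : Fr8 F u) (h2 : (2 : F) ≠ 0) {r : V ≃ₗ[F] V}
    (hr1 : ∀ i ∈ B4, r (u i) = u i - (2 : F)⁻¹ • ∑ k ∈ B4, u k)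
    (hr2 : ∀ i ∉ B4, r (u i) = u i + (2 : F)⁻¹ • ∑ k ∈ B4, u k)
    (hr3 : r (∑ k ∈ B4, u k) = -∑ k ∈ B4, u k) : ∀ x ∈ Xs u, r x ∈ Xs u := by
  have hh : (2 : F)⁻¹ + (2 : F)⁻¹ = 1 := by rw [← two_mul, mul_inv_cancel₀ h2]
  have hw2 : (2 : F)⁻¹ • ∑ k ∈ B4, u k + (2 : F)⁻¹ • ∑ k ∈ B4, u k = ∑ k ∈ B4, u k := by
    rw [← add_smul, hh, one_smul]
  have hcomp : ∑ k ∈ B4ᶜ, u k = -∑ k ∈ B4, u k := by
    rw [eq_neg_iff_add_eq_zero, add_comm, Finset.sum_add_sum_compl, hu.sum]
  have s1 : ∀ i ∈ B4, ∀ j ∈ B4ᶜ, ∑ k ∈ insert j (B4.erase i), u k = u j - u i + ∑ k ∈ B4, u k := by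
    intro i hi j hj
    have hj' : j ∉ B4 := Finset.mem_compl.1 hj
    rw [Finset.sum_insert (fun h => hj' (Finset.mem_of_mem_erase h)), ← Finset.add_sum_erase B4 _ hi]
    abel
  have s2 : ∀ i ∈ B4, ∀ j ∈ B4ᶜ, ∑ k ∈ insert i (B4ᶜ.erase j), u k = u i - u j - ∑ k ∈ B4, u k := by
    intro i hi j hj
    have hi' : i ∉ B4ᶜ := fun h => Finset.mem_compl.1 h hi
    rw [Finset.sum_insert (fun h => hi' (Finset.mem_of_mem_erase h)), sub_sub, sub_eq_add_neg, neg_add, ← hcomp,
      ← Finset.add_sum_erase B4ᶜ _ hj]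
    abel
  rintro x (⟨i, j, hij, rfl⟩ | ⟨S, hS, rfl⟩)
  · by_cases hi : i ∈ B4
    · by_cases hj : j ∈ B4
      · left
        exact ⟨i, j, hij, by rw [map_sub, hr1 i hi, hr1 j hj]; abel⟩
      · right
        refine ⟨insert i (B4ᶜ.erase j), ?_, ?_⟩
        · have : ∀ i ∈ B4, ∀ j ∈ B4ᶜ, (insert i (B4ᶜ.erase j)).card = 4 := by decide
          exact this i hi j (Finset.mem_compl.2 hj)
        · rw [s2 i hi j (Finset.mem_compl.2 hj), map_sub, hr1 i hi, hr2 j hj]
          nth_rewrite 3 [← hw2]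
          abel
    · by_cases hj : j ∈ B4
      · right
        refine ⟨insert i (B4.erase j), ?_, ?_⟩
        · have : ∀ j ∈ B4, ∀ i ∈ B4ᶜ, (insert i (B4.erase j)).card = 4 := by decide
          exact this j hj i (Finset.mem_compl.2 hi)
        · rw [s1 j hj i (Finset.mem_compl.2 hi), map_sub, hr1 j hj, hr2 i hi]
          nth_rewrite 3 [← hw2]
          abel
      · left
        exact ⟨i, j, hij, by rw [map_sub, hr2 i hi, hr2 j hj]; abel⟩
  · rcases S_cases S hS with h | rfl | rfl | ⟨i, hi, j, hj, rfl⟩ | ⟨i, hi, j, hj, rfl⟩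
    · right
      refine ⟨S, hS, ?_⟩
      have hsd : (S \ B4).card = 2 := by
        have := Finset.card_sdiff_add_card_inter S B4
        omega
      rw [map_sum, ← Finset.sum_inter_add_sum_sdiff S B4, ← Finset.sum_inter_add_sum_sdiff S B4]
      rw [Finset.sum_congr rfl (fun k (hk : k ∈ S ∩ B4) => hr1 k (Finset.mem_inter.1 hk).2),
        Finset.sum_congr rfl (fun k (hk : k ∈ S \ B4) => hr2 k (Finset.mem_sdiff.1 hk).2),
        Finset.sum_sub_distrib, Finset.sum_add_distrib, Finset.sum_const, Finset.sum_const, h, hsd]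
      abel
    · right
      exact ⟨B4ᶜ, by decide, by rw [hr3, hcomp]⟩
    · right
      exact ⟨B4, by decide, by rw [hcomp, map_neg, hr3, neg_neg]⟩
    · left
      refine ⟨j, i, fun h => Finset.mem_compl.1 hj (h ▸ hi), ?_⟩
      rw [s1 i hi j hj, map_add, map_sub, hr3, hr1 i hi, hr2 j (Finset.mem_compl.1 hj)]
      nth_rewrite 3 [← hw2]
      abel
    · left
      refine ⟨i, j, fun h => Finset.mem_compl.1 hj (h ▸ hi), ?_⟩
      rw [s2 i hi j hj, map_sub, map_sub, hr3, hr1 i hi, hr2 j (Finset.mem_compl.1 hj)]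
      nth_rewrite 3 [← hw2]
      abel

theorem pick : ∀ j : Fin 8, ∃ i k : Fin 8, i ≠ j ∧ k ≠ j ∧ (i = 0 ∨ i = 1) ∧ (k = 3 ∨ k = 5) := by decide

/-- **`A₈` is not the core of a maximal subgroup** -/
theorem Max7.not_a8 [Finite F] {Q : QuadraticForm F V} {H P : Subgroup (V ≃ₗ[F] V)} (hM : Max7 Q H P)
    (e : P ≃* alternatingGroup (Fin 8)) : False := by
  let τ : alternatingGroup (Fin 8) →* (V ≃ₗ[F] V) := P.subtype.comp e.symm.toMonoidHom
  have h7 := hM.finrank_eq
  have h2 := hM.two_ne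
  rcases a8_cases h7 h2 τ with ⟨w, hw, hfix⟩ | ⟨u, hu, hτ⟩
  · refine hM.no_fix hw fun g hg => ?_
    have h1 := hfix (e ⟨g, hg⟩)
    rwa [show τ (e ⟨g, hg⟩) = g by
      show ((e.symm (e ⟨g, hg⟩) : P) : V ≃ₗ[F] V) = g
      rw [e.symm_apply_apply]] at h1
  have hI : Inv8 Q u (polar Q (u 0) (u 1)) := by
    refine ⟨hu, fun i j hij => ?_⟩
    obtain ⟨g, h0, h1⟩ := exists_even_pair hij
    have h3 := hM.pol (hM.PH (e.symm g).2) (u 0) (u 1)
    have h4 : ∀ i, ((e.symm g : P) : V ≃ₗ[F] V) (u i) = u ((g : Perm (Fin 8)) i) := hτ g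
    rw [h4, h4, h0, h1] at h3
    exact h3
  obtain ⟨r, hrO, hrr, hr1, hr2, hr3⟩ := hI.exists_refl h7 h2 hM.nondeg
  have hrX := Xs_refl hu h2 hr1 hr2 hr3
  have hrinv : r⁻¹ = r := inv_eq_of_mul_eq_one_left hrr
  let s : V ≃ₗ[F] V := hu.pm h7 (swap (3 : Fin 8) 4)
  have hs : ∀ i, s (u i) = u (swap (3 : Fin 8) 4 i) := hu.pm_apply h7 (swap (3 : Fin 8) 4)
  have hsX := Xs_perm hs
  have hss : s⁻¹ = s := by
    show (hu.pm h7 (swap (3 : Fin 8) 4))⁻¹ = hu.pm h7 (swap (3 : Fin 8) 4)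
    rw [← map_inv, swap_inv]
  have hsO : s ∈ O Q := hI.pm_mem h7 h2 _
  have hgE : r * s * r⁻¹ * s⁻¹ ∈ E Q := by
    rw [← hM.comm_eq]
    exact Subgroup.commutator_mem_commutator hrO hsO
  have hgX : ∀ x ∈ Xs u, (r * s * r⁻¹ * s⁻¹) x ∈ Xs u := by
    intro x hx
    rw [hrinv, hss]
    exact hrX _ (hsX _ (hrX _ (hsX _ hx)))
  have h01 : u 0 - u 1 ≠ 0 := by
    intro h
    have h3 := hu.rel (fun i => if i = 0 then 1 else if i = 1 then -1 else 0) (by
      rw [← h]
      simp only [Fin.sum_univ_eight, sub_eq_add_neg, _root_.Fin.isValue, _root_.ite_smul, _root_.one_smul, _root_.neg_smul, _root_.zero_smul, ↓ _root_.reduceIte, _root_.one_ne_zero, _root_.Fin.reduceEq, _root_.add_zero]) 0 1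
    simp only [if_true] at h3
    rw [if_neg (by decide)] at h3
    apply h2
    linear_combination h3
  have hgH : r * s * r⁻¹ * s⁻¹ ∈ H := by
    refine hM.mem_of_preserve (Xs_finite u) (Xs_ncard u) (r := u 0 - u 1) (Or.inl ⟨0, 1, by decide, rfl⟩) h01
      (fun h hh => ?_) hgE hgX
    obtain ⟨σ, c, hc, hcu⟩ := hM.a8_form e hI hτ hh
    exact Xs_pm hu hc hcu
  obtain ⟨σ, c, hc, hcu⟩ := hM.a8_form e hI hτ hgH
  have h3 : (r * s * r⁻¹ * s⁻¹) (u 7) = u 7 + (2 : F)⁻¹ • (u 0 + u 1 + u 2 + u 4) := by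
    rw [hrinv, hss]
    show r (s (r (s (u 7)))) = _
    rw [hs, show swap (3 : Fin 8) 4 (7 : Fin 8) = 7 by decide, hr2 7 (by decide), map_add, map_smul, hs,
      show swap (3 : Fin 8) 4 (7 : Fin 8) = 7 by decide, map_sum]
    simp only [hs]
    rw [show ∑ x ∈ B4, u (swap (3 : Fin 8) 4 x) = u 0 + u 1 + u 2 + u 4 by
      simp only [B4]
      rw [Finset.sum_insert (by decide), Finset.sum_insert (by decide), Finset.sum_insert (by decide),
        Finset.sum_singleton, show swap (3 : Fin 8) 4 (0 : Fin 8) = 0 by decide, show swap (3 : Fin 8) 4 (1 : Fin 8) = 1 by decide,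
        show swap (3 : Fin 8) 4 (2 : Fin 8) = 2 by decide, show swap (3 : Fin 8) 4 (3 : Fin 8) = 4 by decide]
      abel]
    rw [map_add, map_smul, map_add, map_add, map_add, hr1 0 (by decide), hr1 1 (by decide), hr1 2 (by decide),
      hr2 4 (by decide), hr2 7 (by decide)]
    have hh : (2 : F)⁻¹ * 2 = 1 := inv_mul_cancel₀ h2
    match_scalars <;> first | ring1 | linear_combination (2 : F)⁻¹ * hh | linear_combination (-(2 : F)⁻¹) * hh
  have h4 := hcu 7
  rw [h3] at h4
  have h5 := hu.rel (fun i => (if i = 7 then 1 else 0) + (if i = 0 ∨ i = 1 ∨ i = 2 ∨ i = 4 then (2 : F)⁻¹ else 0) -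
    (if i = σ 7 then c else 0)) (by
      simp only [sub_smul, Finset.sum_sub_distrib, add_smul, Finset.sum_add_distrib, ite_smul, zero_smul,
        Finset.sum_ite_eq', Finset.mem_univ, if_true]
      rw [← h4]
      simp only [Fin.sum_univ_eight, smul_add, _root_.Fin.isValue, _root_.one_smul, _root_.zero_ne_one, _root_.Fin.reduceEq, _root_.or_self, _root_.or_false, ↓ _root_.reduceIte, _root_.one_ne_zero, _root_.or_true, _root_.add_zero, _root_.sub_self])
  obtain ⟨i, k, hi, hk, hi', hk'⟩ := pick (σ 7)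
  have h6 := h5 i k
  simp only [if_neg hi, if_neg hk] at h6
  have h20 : (2 : F)⁻¹ ≠ 0 := inv_ne_zero h2
  rcases hi' with rfl | rfl <;> rcases hk' with rfl | rfl <;> simp only [_root_.Fin.isValue, _root_.Fin.reduceEq, ↓ _root_.reduceIte, _root_.zero_ne_one, _root_.or_self, _root_.or_false, _root_.zero_add, _root_.sub_zero, _root_.add_zero, _root_.sub_self, _root_.inv_eq_zero, _root_.one_ne_zero, _root_.or_true] at h6 <;> exact h2 h6

end Cfsg.Agent.H856.Sv
end

-- part: H856/Sv7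
section
/-!
# `Sp₆(2)` is generated by `A₈` and a transvection

`phi : Perm (Fin 8) →* Sp₆(2)`; `tB` : the transvection attached to the partition `0123|4567`.
-/

set_option autoImplicit false
set_option linter.unusedSectionVars false

open scoped Pointwise Matrix

namespace Cfsg.Agent.H856.SpS

open Equiv Cfsg.Agent.ClassicalGeometry.SympBasic

/-- the natural module -/
abbrev M6 : Type := Fin 3 ⊕ Fin 3 → ZMod 2

/-- the group -/
abbrev G6 : Type := Matrix.symplecticGroup (Fin 3) (ZMod 2)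

/-- eight vectors with sum zero and pairwise products 1, except the last -/
def dl : Fin 8 → M6 :=
  ![Sum.elim ![1, 0, 0] ![0, 0, 0], Sum.elim ![0, 0, 0] ![1, 0, 0],
    Sum.elim ![1, 1, 0] ![1, 0, 0], Sum.elim ![1, 0, 0] ![1, 1, 0],
    Sum.elim ![1, 1, 1] ![1, 1, 0], Sum.elim ![1, 1, 0] ![1, 1, 1],
    Sum.elim ![1, 1, 1] ![1, 1, 1], 0]

theorem dl_seven : dl 7 = 0 := rfl

theorem dl_sum : ∑ i, dl i = 0 := by decide +kernel

/-- the symplectic form -/
abbrev fm (x y : M6) : ZMod 2 := Cfsg.sympForm 3 (ZMod 2) x y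

theorem form_tri0 : ∀ a b c : Fin 8, a ≠ c → b ≠ c →
    (∑ i : Fin 3, ((dl a + dl c) (Sum.inr i) * (dl b + dl c) (Sum.inl i) -
      (dl a + dl c) (Sum.inl i) * (dl b + dl c) (Sum.inr i))) = if a = b then 0 else 1 := by
  decide +kernel

theorem form_tri {a b c : Fin 8} (h1 : a ≠ c) (h2 : b ≠ c) :
    fm (dl a + dl c) (dl b + dl c) = if a = b then 0 else 1 := by
  rw [fm, sympForm_eq_sum]
  exact form_tri0 a b c h1 h2

theorem dl_li : LinearIndependent (ZMod 2) (fun i : Fin 6 => dl (Fin.castLE (by norm_num) i)) := by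
  rw [Fintype.linearIndependent_iff]
  have key : ∀ g : Fin 6 → ZMod 2, ∑ i, g i • dl (Fin.castLE (by norm_num : 6 ≤ 8) i) = 0 → g = 0 := by
    decide +kernel
  intro g hg i
  rw [key g hg]
  rfl

/-- the basis -/
noncomputable def b6 : Module.Basis (Fin 6) (ZMod 2) M6 :=
  basisOfLinearIndependentOfCardEqFinrank dl_li (by simp)

theorem b6_apply (i : Fin 6) : b6 i = dl (Fin.castLE (by norm_num) i) := by simp [b6]

/-- the linear map of a permutation -/
noncomputable def Lp (σ : Perm (Fin 8)) : M6 →ₗ[ZMod 2] M6 :=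
  b6.constr (ZMod 2) (fun i => dl (σ (Fin.castLE (by norm_num) i)) + dl (σ 7))

theorem add_self (x : M6) : x + x = 0 := by
  funext i
  exact CharTwo.add_self_eq_zero _

theorem Lp_low (σ : Perm (Fin 8)) (i : Fin 6) :
    Lp σ (dl (Fin.castLE (by norm_num) i)) = dl (σ (Fin.castLE (by norm_num) i)) + dl (σ 7) := by
  rw [← b6_apply, Lp, Module.Basis.constr_basis]

theorem dl_six : dl 6 = dl 0 + dl 1 + dl 2 + dl 3 + dl 4 + dl 5 := by decide +kernel

theorem Lp_apply (σ : Perm (Fin 8)) (i : Fin 8) : Lp σ (dl i) = dl (σ i) + dl (σ 7) := by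
  have h0 : Lp σ (dl 0) = dl (σ 0) + dl (σ 7) := Lp_low σ 0
  have h1 : Lp σ (dl 1) = dl (σ 1) + dl (σ 7) := Lp_low σ 1
  have h2 : Lp σ (dl 2) = dl (σ 2) + dl (σ 7) := Lp_low σ 2
  have h3 : Lp σ (dl 3) = dl (σ 3) + dl (σ 7) := Lp_low σ 3
  have h4 : Lp σ (dl 4) = dl (σ 4) + dl (σ 7) := Lp_low σ 4
  have h5 : Lp σ (dl 5) = dl (σ 5) + dl (σ 7) := Lp_low σ 5
  have hs : ∑ j, dl (σ j) = 0 := by rw [Equiv.sum_comp σ dl, dl_sum]
  rw [Fin.sum_univ_eight] at hs
  have h6 : Lp σ (dl 6) = dl (σ 6) + dl (σ 7) := by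
    rw [dl_six, map_add, map_add, map_add, map_add, map_add, h0, h1, h2, h3, h4, h5]
    have e1 : dl (σ 0) + dl (σ 7) + (dl (σ 1) + dl (σ 7)) + (dl (σ 2) + dl (σ 7)) + (dl (σ 3) + dl (σ 7)) +
        (dl (σ 4) + dl (σ 7)) + (dl (σ 5) + dl (σ 7)) =
        (dl (σ 0) + dl (σ 1) + dl (σ 2) + dl (σ 3) + dl (σ 4) + dl (σ 5) + dl (σ 6) + dl (σ 7)) +
        (dl (σ 7) + dl (σ 7)) + (dl (σ 7) + dl (σ 7)) + (dl (σ 7) - dl (σ 6)) := by abel
    rw [e1, hs, add_self]
    have e2 : -dl (σ 6) = dl (σ 6) := by rw [neg_eq_iff_add_eq_zero, add_self]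
    rw [sub_eq_add_neg, e2]
    abel
  have h7 : Lp σ (dl 7) = dl (σ 7) + dl (σ 7) := by rw [dl_seven, map_zero, add_self]
  fin_cases i
  · exact h0
  · exact h1
  · exact h2
  · exact h3
  · exact h4
  · exact h5
  · exact h6
  · exact h7

theorem ext6 {W : Type*} [AddCommGroup W] [Module (ZMod 2) W] {L L' : M6 →ₗ[ZMod 2] W}
    (h : ∀ i, L (dl i) = L' (dl i)) : L = L' := by
  apply b6.ext
  intro i
  rw [b6_apply, h]

theorem Lp_mul (σ τ : Perm (Fin 8)) : Lp (σ * τ) = (Lp σ).comp (Lp τ) := by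
  apply ext6
  intro i
  rw [LinearMap.comp_apply, Lp_apply, Lp_apply, map_add, Lp_apply, Lp_apply]
  show dl (σ (τ i)) + dl (σ (τ 7)) = dl (σ (τ i)) + dl (σ 7) + (dl (σ (τ 7)) + dl (σ 7))
  have e1 : dl (σ (τ i)) + dl (σ 7) + (dl (σ (τ 7)) + dl (σ 7)) =
    dl (σ (τ i)) + dl (σ (τ 7)) + (dl (σ 7) + dl (σ 7)) := by abel
  rw [e1, add_self, add_zero]

theorem Lp_one : Lp 1 = LinearMap.id := by
  apply ext6
  intro i
  rw [Lp_apply]
  show dl i + dl 7 = dl i
  rw [dl_seven, add_zero]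

theorem Lp_form (σ : Perm (Fin 8)) (x y : M6) : fm (Lp σ x) (Lp σ y) = fm x y := by
  have key : ((sympBilin 3 (ZMod 2)).compl₁₂ (Lp σ) (Lp σ)) = sympBilin 3 (ZMod 2) := by
    apply b6.ext
    intro i
    apply b6.ext
    intro j
    rw [LinearMap.compl₁₂_apply, sympBilin_apply, sympBilin_apply, b6_apply, b6_apply, Lp_low, Lp_low]
    have hi : (Fin.castLE (by norm_num : 6 ≤ 8) i) ≠ 7 := by revert i; decide
    have hj : (Fin.castLE (by norm_num : 6 ≤ 8) j) ≠ 7 := by revert j; decide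
    have h1 := form_tri (a := σ (Fin.castLE (by norm_num) i)) (b := σ (Fin.castLE (by norm_num) j)) (c := σ 7)
      (fun h => hi (σ.injective h)) (fun h => hj (σ.injective h))
    have h2 := form_tri hi hj
    rw [dl_seven, add_zero, add_zero] at h2
    rw [show Cfsg.sympForm 3 (ZMod 2) (dl (Fin.castLE (by norm_num) i)) (dl (Fin.castLE (by norm_num) j)) = _ from h2]
    refine Eq.trans h1 ?_
    simp only [EmbeddingLike.apply_eq_iff_eq]
  exact (congrArg (fun B : LinearMap.BilinForm (ZMod 2) M6 => B x y) key :)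

/-- the homomorphism from the symmetric group -/
noncomputable def phi : Perm (Fin 8) →* G6 where
  toFun σ := ⟨LinearMap.toMatrix' (Lp σ), by
    rw [mem_symplecticGroup_iff]
    intro x y
    rw [← Matrix.toLin'_apply, ← Matrix.toLin'_apply, Matrix.toLin'_toMatrix']
    exact Lp_form σ x y⟩
  map_one' := by
    apply Subtype.ext
    show LinearMap.toMatrix' (Lp 1) = 1
    rw [Lp_one, LinearMap.toMatrix'_id]
  map_mul' σ τ := by
    apply Subtype.ext
    show LinearMap.toMatrix' (Lp (σ * τ)) = LinearMap.toMatrix' (Lp σ) * LinearMap.toMatrix' (Lp τ)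
    rw [Lp_mul, LinearMap.toMatrix'_comp]

theorem phi_mulVec (σ : Perm (Fin 8)) (x : M6) :
    ((phi σ : G6) : Matrix (Fin 3 ⊕ Fin 3) (Fin 3 ⊕ Fin 3) (ZMod 2)) *ᵥ x = Lp σ x := by
  show LinearMap.toMatrix' (Lp σ) *ᵥ x = Lp σ x
  rw [← Matrix.toLin'_apply, Matrix.toLin'_toMatrix']

/-- transvections -/
abbrev tv (v : M6) : G6 := transv v 1

theorem conj_tv (g : G6) (v : M6) :
    g * tv v * g⁻¹ = tv ((g : Matrix (Fin 3 ⊕ Fin 3) (Fin 3 ⊕ Fin 3) (ZMod 2)) *ᵥ v) := by
  rw [mul_inv_eq_iff_eq_mul]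
  apply Subtype.ext
  exact mul_sympTransvection g.2 v 1

theorem tv_mulVec (v x : M6) : ((tv v : G6) : Matrix (Fin 3 ⊕ Fin 3) (Fin 3 ⊕ Fin 3) (ZMod 2)) *ᵥ x =
    x + fm x v • v := by
  have h := sympTransvection_mulVec v x (1 : ZMod 2)
  rw [one_mul] at h
  exact h

theorem tv_mul_self (v : M6) : tv v * tv v = 1 := by
  apply Subtype.ext
  have h2 : (1 : ZMod 2) + 1 = 0 := by decide
  show Cfsg.sympTransvection 3 v (1 : ZMod 2) * Cfsg.sympTransvection 3 v (1 : ZMod 2) = 1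
  rw [sympTransvection_mul, h2, sympTransvection_zero]

/-- the extra transvection -/
noncomputable def tB : G6 := tv (∑ i ∈ Sv.B4, dl i)

theorem tB_mul_self : tB * tB = 1 := tv_mul_self _

theorem four_mul (x : M6) : x + x + x + x = 0 := by rw [add_assoc, add_self]

/-- the action on sums of four -/
theorem Lp_quad (σ : Perm (Fin 8)) (S : Finset (Fin 8)) (hS : S.card = 4) :
    Lp σ (∑ i ∈ S, dl i) = ∑ i ∈ S, dl (σ i) := by
  rw [map_sum]
  simp only [Lp_apply]
  rw [Finset.sum_add_distrib, Finset.sum_const, hS]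
  have h1 : (4 : ℕ) • dl (σ 7) = 0 := by
    rw [← four_mul (dl (σ 7))]
    simp only [succ_nsmul, zero_nsmul, zero_add]
  rw [h1, add_zero]

theorem Lp_pair (σ : Perm (Fin 8)) (i j : Fin 8) : Lp σ (dl i + dl j) = dl (σ i) + dl (σ j) := by
  rw [map_add, Lp_apply, Lp_apply]
  have e1 : dl (σ i) + dl (σ 7) + (dl (σ j) + dl (σ 7)) =
    dl (σ i) + dl (σ j) + (dl (σ 7) + dl (σ 7)) := by abel
  rw [e1, add_self, add_zero]

/-- an even permutation moving the block to a given 4-set -/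
theorem exists_even_quad (S : Finset (Fin 8)) (hS : S.card = 4) :
    ∃ g : alternatingGroup (Fin 8), Sv.B4.map (g : Perm (Fin 8)).toEmbedding = S := by
  have h1 : Sv.B4.card = S.card := by rw [hS]; rfl
  let e : Sv.B4 ≃ S := Finset.equivOfCardEq h1
  obtain ⟨f, hf⟩ := Finset.exists_equiv_extend_of_card_eq (α := Fin 8) (t := (Finset.univ : Finset (Fin 8)))
    (by simp) (s := Sv.B4) (f := fun i => if h : i ∈ Sv.B4 then (e ⟨i, h⟩ : Fin 8) else 0)
    (Finset.subset_univ _) (by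
      intro i hi j hj hij
      simp only [Finset.mem_coe] at hi hj
      simp only [dif_pos hi, dif_pos hj] at hij
      have h3 := e.injective (Subtype.ext hij)
      exact congrArg Subtype.val h3)
  let σ : Perm (Fin 8) := f.trans (Equiv.subtypeUnivEquiv (fun x => Finset.mem_univ x))
  have hσ : ∀ i (hi : i ∈ Sv.B4), σ i = (e ⟨i, hi⟩ : Fin 8) := by
    intro i hi
    have h3 := hf i hi
    rw [dif_pos hi] at h3
    exact h3
  have hmap : ∀ τ : Perm (Fin 8), Sv.B4.map τ.toEmbedding = Sv.B4 → Sv.B4.map (σ * τ).toEmbedding = S := by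
    intro τ hτ
    apply Finset.eq_of_subset_of_card_le
    · intro x hx
      rw [Finset.mem_map] at hx
      obtain ⟨i, hi, rfl⟩ := hx
      have h4 : τ i ∈ Sv.B4 := by
        rw [← hτ]
        exact Finset.mem_map_of_mem _ hi
      show σ (τ i) ∈ S
      rw [hσ _ h4]
      exact (e _).2
    · rw [Finset.card_map, hS]
      rfl
  rcases Int.units_eq_one_or (Perm.sign σ) with hs | hs
  · refine ⟨⟨σ, Perm.mem_alternatingGroup.2 hs⟩, ?_⟩
    have h5 := hmap 1 (by decide)
    rwa [mul_one] at h5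
  · refine ⟨⟨σ * swap (0 : Fin 8) 1, Perm.mem_alternatingGroup.2 ?_⟩, hmap _ (by decide)⟩
    rw [Perm.sign_mul, hs, Perm.sign_swap (by decide)]; rfl

theorem classify : ∀ v : M6, v = 0 ∨ (∃ i j : Fin 8, i ≠ j ∧ v = dl i + dl j) ∨
    ∃ S : Finset (Fin 8), S.card = 4 ∧ v = ∑ i ∈ S, dl i := by
  decide +kernel

theorem form_quads0 : (∑ i : Fin 3, ((∑ k ∈ ({0, 2, 3, 4} : Finset (Fin 8)), dl k) (Sum.inr i) *
    (∑ k ∈ ({1, 2, 3, 4} : Finset (Fin 8)), dl k) (Sum.inl i) -
      (∑ k ∈ ({0, 2, 3, 4} : Finset (Fin 8)), dl k) (Sum.inl i) *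
      (∑ k ∈ ({1, 2, 3, 4} : Finset (Fin 8)), dl k) (Sum.inr i))) = 1 := by
  decide +kernel

theorem quads_add : (∑ k ∈ ({0, 2, 3, 4} : Finset (Fin 8)), dl k) + (∑ k ∈ ({1, 2, 3, 4} : Finset (Fin 8)), dl k) =
    dl 0 + dl 1 := by
  decide +kernel

/-- **`Sp₆(2)` is generated by `A₈` and one transvection** -/
theorem gen (K : Subgroup G6) (h8 : ∀ g : alternatingGroup (Fin 8), phi (g : Perm (Fin 8)) ∈ K) (hB : tB ∈ K) :
    K = ⊤ := by
  have hconj : ∀ g ∈ K, ∀ v, tv v ∈ K →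
      tv ((g : Matrix (Fin 3 ⊕ Fin 3) (Fin 3 ⊕ Fin 3) (ZMod 2)) *ᵥ v) ∈ K := by
    intro g hg v hv
    rw [← conj_tv]
    exact K.mul_mem (K.mul_mem hg hv) (K.inv_mem hg)
  have hquad : ∀ S : Finset (Fin 8), S.card = 4 → tv (∑ i ∈ S, dl i) ∈ K := by
    intro S hS
    obtain ⟨g, hg⟩ := exists_even_quad S hS
    have h1 := hconj _ (h8 g) _ hB
    rw [phi_mulVec, Lp_quad _ _ (by rfl)] at h1
    rw [← hg, Finset.sum_map]
    exact h1
  have h01 : tv (dl 0 + dl 1) ∈ K := by
    have h1 := hconj _ (hquad {1, 2, 3, 4} (by decide)) _ (hquad {0, 2, 3, 4} (by decide))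
    rw [tv_mulVec, fm, sympForm_eq_sum, form_quads0, one_smul, quads_add] at h1
    exact h1
  have hpair : ∀ i j : Fin 8, i ≠ j → tv (dl i + dl j) ∈ K := by
    intro i j hij
    obtain ⟨g, h0, h1⟩ := Sv.exists_even_pair hij
    have h2 := hconj _ (h8 g) _ h01
    rw [phi_mulVec, Lp_pair, h0, h1] at h2
    exact h2
  have hall : ∀ v : M6, tv v ∈ K := by
    intro v
    rcases classify v with rfl | ⟨i, j, hij, rfl⟩ | ⟨S, hS, rfl⟩
    · have h1 : tv (0 : M6) = 1 := by
        apply Subtype.ext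
        show Cfsg.sympTransvection 3 (0 : M6) (1 : ZMod 2) = 1
        rw [← Matrix.mulVec_injective.eq_iff]
        funext x
        rw [sympTransvection_mulVec, smul_zero, add_zero, Matrix.one_mulVec]
      rw [h1]
      exact K.one_mem
    · exact hpair i j hij
    · exact hquad S hS
  rw [eq_top_iff, ← Cfsg.Agent.S0765.result, Subgroup.closure_le]
  rintro A ⟨w, c, hA⟩
  have hc : ∀ c : ZMod 2, c = 0 ∨ c = 1 := by decide
  rcases hc c with rfl | rfl
  · have h1 : A = 1 := by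
      apply Subtype.ext
      rw [hA, sympTransvection_zero]
      rfl
    rw [h1]
    exact K.one_mem
  · have h1 : A = tv w := Subtype.ext hA
    rw [h1]
    exact hall w

/-- elements of `A₈` preserving the block partition commute with the transvection -/
theorem tB_comm {σ : Perm (Fin 8)} (h : ∑ i ∈ Sv.B4, dl (σ i) = ∑ i ∈ Sv.B4, dl i) :
    phi σ * tB = tB * phi σ := by
  have h1 := conj_tv (phi σ) (∑ i ∈ Sv.B4, dl i)
  rw [phi_mulVec, Lp_quad _ _ (by rfl), h] at h1
  rwa [mul_inv_eq_iff_eq_mul] at h1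

end Cfsg.Agent.H856.SpS
end

-- part: H856/Sv6
section
/-!
# `A₉` in dimension 7

A 7-dimensional representation of `A₉` without fixed vectors, characteristic not 2: the characteristic is 3 and there is
a basis in which all matrix entries are in the prime field.
-/

set_option autoImplicit false
set_option linter.unusedSectionVars false

open scoped Pointwise

namespace Cfsg.Agent.H856.Sv

open Equiv QuadraticMap

variable {F : Type*} [Field F] {V : Type*} [AddCommGroup V] [Module F V]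

/-- the stabiliser of the last point -/
theorem exists_io9 : ∃ ι : alternatingGroup (Fin 8) →* alternatingGroup (Fin 9),
    (∀ g i, ((ι g : alternatingGroup (Fin 9)) : Perm (Fin 9)) (Fin.castSucc i) = ((g : Perm (Fin 8)) i).castSucc) ∧
    (∀ g, ((ι g : alternatingGroup (Fin 9)) : Perm (Fin 9)) (Fin.last 8) = Fin.last 8) ∧
    ∀ g : alternatingGroup (Fin 9), (g : Perm (Fin 9)) (Fin.last 8) = Fin.last 8 → g ∈ ι.range := by
  let e : Fin 8 ≃ {x : Fin 9 // x ≠ Fin.last 8} := finSuccAboveEquiv (Fin.last 8)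
  have he : ∀ i, ((e i : {x : Fin 9 // x ≠ Fin.last 8}) : Fin 9) = i.castSucc := by
    intro i
    show (((finSuccAboveEquiv (Fin.last 8)) i : {x : Fin 9 // x ≠ Fin.last 8}) : Fin 9) = i.castSucc
    rw [finSuccAboveEquiv_apply]
    exact Fin.succAbove_last_apply i
  let f0 : Perm (Fin 8) →* Perm (Fin 9) := Equiv.Perm.extendDomainHom e
  have h0 : ∀ g i, f0 g (Fin.castSucc i) = (g i).castSucc := by
    intro g i
    rw [← he, ← he]
    exact Equiv.Perm.extendDomain_apply_image g e i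
  have h1 : ∀ g, f0 g (Fin.last 8) = Fin.last 8 := by
    intro g
    exact Equiv.Perm.extendDomain_apply_not_subtype g e (not_not.2 rfl)
  refine ⟨(f0.comp (alternatingGroup (Fin 8)).subtype).codRestrict _ ?_, fun g i => h0 _ i, fun g => h1 _, ?_⟩
  · intro x
    change Equiv.Perm.extendDomain (x : Perm (Fin 8)) e ∈ alternatingGroup _
    rw [Equiv.Perm.mem_alternatingGroup, Equiv.Perm.sign_extendDomain]
    exact Equiv.Perm.mem_alternatingGroup.1 x.2
  · intro g hg
    have h1 : ∀ x, (g : Perm (Fin 9)) x ≠ Fin.last 8 ↔ x ≠ Fin.last 8 := by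
      intro x
      rw [not_iff_not]
      constructor
      · intro h
        apply (g : Perm (Fin 9)).injective
        rw [h, hg]
      · rintro rfl; exact hg
    let h : Perm (Fin 8) := e.symm.permCongr ((g : Perm (Fin 9)).subtypePerm h1)
    have h2 : Equiv.Perm.extendDomain h e = g := by
      ext x
      by_cases hx : x = Fin.last 8
      · rw [Equiv.Perm.extendDomain_apply_not_subtype h e (not_not.2 hx), hx, hg]
      · rw [Equiv.Perm.extendDomain_apply_subtype h e hx]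
        simp [h, Equiv.permCongr_apply, Equiv.Perm.subtypePerm_apply]
    have h3 : Perm.sign h = 1 := by
      rw [← Equiv.Perm.sign_extendDomain h e, h2]
      exact Equiv.Perm.mem_alternatingGroup.1 g.2
    exact ⟨⟨h, Equiv.Perm.mem_alternatingGroup.2 h3⟩, Subtype.ext h2⟩

theorem exists_even9 {i j : Fin 9} (hij : i ≠ j) :
    ∃ g : alternatingGroup (Fin 9), (g : Perm (Fin 9)) 0 = i ∧ (g : Perm (Fin 9)) (Fin.last 8) = j := by
  revert i j
  have key : ∀ i j : Fin 9, i ≠ j → ∃ σ : Perm (Fin 9), σ 0 = i ∧ σ (Fin.last 8) = j := by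
    intro i j hij
    refine ⟨swap 0 i * swap (Fin.last 8) (swap 0 i j), ?_, ?_⟩
    · have h0 : (0 : Fin 9) ≠ swap 0 i j := by
        intro h
        have h1 : swap 0 i (0 : Fin 9) = swap 0 i (swap 0 i j) := congrArg _ h
        rw [swap_apply_left, swap_apply_self] at h1
        exact hij h1
      have h2 : swap (Fin.last 8) (swap 0 i j) (0 : Fin 9) = 0 := swap_apply_of_ne_of_ne (by decide) h0
      rw [Perm.mul_apply, h2, swap_apply_left]
    · rw [Perm.mul_apply, swap_apply_left, swap_apply_self]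
  intro i j hij
  obtain ⟨σ, h0, h1⟩ := key i j hij
  rcases Int.units_eq_one_or (Perm.sign σ) with hs | hs
  · exact ⟨⟨σ, Perm.mem_alternatingGroup.2 hs⟩, h0, h1⟩
  · refine ⟨⟨σ * swap (2 : Fin 9) 3, Perm.mem_alternatingGroup.2 ?_⟩, ?_, ?_⟩
    · rw [Perm.sign_mul, hs, Perm.sign_swap (by decide)]; rfl
    · show σ (swap (2 : Fin 9) 3 0) = i
      rw [swap_apply_of_ne_of_ne (by decide) (by decide), h0]
    · show σ (swap (2 : Fin 9) 3 (Fin.last 8)) = j
      rw [swap_apply_of_ne_of_ne (by decide) (by decide), h1]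

theorem exists_third2 : ∀ i k : Fin 8, ∃ l : Fin 8, l ≠ i ∧ l ≠ k ∧ l ≠ 0 ∧ l ≠ 1 := by decide +kernel

/-- the vectors fixed by the stabiliser of two points -/
theorem Fr8.fixed2 {u : Fin 8 → V} (hu : Fr8 F u) (h7 : Module.finrank F V = 7)
    {τ : alternatingGroup (Fin 8) →* (V ≃ₗ[F] V)}
    (hτ : ∀ (g : alternatingGroup (Fin 8)) i, τ g (u i) = u ((g : Perm (Fin 8)) i)) {v : V}
    (hv : ∀ g : alternatingGroup (Fin 8), (g : Perm (Fin 8)) 0 = 0 → (g : Perm (Fin 8)) 1 = 1 → τ g v = v) :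
    ∃ c d : F, v = c • u 0 + d • u 1 := by
  obtain ⟨x, rfl⟩ := hu.exists_sum h7 v
  have key : ∀ g : alternatingGroup (Fin 8), (g : Perm (Fin 8)) 0 = 0 → (g : Perm (Fin 8)) 1 = 1 →
      ∀ i, x ((g : Perm (Fin 8)) i) = x i := by
    intro g hg hg' i
    have h1 := hv g hg hg'
    rw [map_sum] at h1
    simp only [map_smul, hτ] at h1
    have h2 : ∑ k, x k • u ((g : Perm (Fin 8)) k) = ∑ k, x ((g : Perm (Fin 8))⁻¹ k) • u k := by
      rw [← Equiv.sum_comp (g : Perm (Fin 8)) (fun k => x ((g : Perm (Fin 8))⁻¹ k) • u k)]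
      simp
    rw [h2, ← sub_eq_zero, ← Finset.sum_sub_distrib] at h1
    simp only [← sub_smul] at h1
    have h3 := hu.rel _ h1 ((g : Perm (Fin 8)) i) 0
    have h4 : (g : Perm (Fin 8))⁻¹ 0 = 0 := by rw [Perm.inv_eq_iff_eq]; exact hg.symm
    rw [h4, sub_self, show (g : Perm (Fin 8))⁻¹ ((g : Perm (Fin 8)) i) = i from (g : Perm (Fin 8)).symm_apply_apply i,
      sub_eq_zero] at h3
    exact h3.symm
  have hconst : ∀ i k : Fin 8, i ≠ 0 → i ≠ 1 → k ≠ 0 → k ≠ 1 → x i = x k := by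
    intro i k hi0 hi1 hk0 hk1
    by_cases hik : i = k
    · rw [hik]
    obtain ⟨l, hl⟩ := exists_third2 i k
    have h1 := key ⟨swap i k * swap k l, by
      rw [Perm.mem_alternatingGroup, Perm.sign_mul, Perm.sign_swap hik, Perm.sign_swap hl.2.1.symm]; rfl⟩
      (by
        show swap i k (swap k l 0) = 0
        rw [swap_apply_of_ne_of_ne hk0.symm hl.2.2.1.symm, swap_apply_of_ne_of_ne hi0.symm hk0.symm])
      (by
        show swap i k (swap k l 1) = 1
        rw [swap_apply_of_ne_of_ne hk1.symm hl.2.2.2.symm, swap_apply_of_ne_of_ne hi1.symm hk1.symm]) i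
    rw [← h1]
    show x (swap i k (swap k l i)) = x k
    rw [swap_apply_of_ne_of_ne hik hl.1.symm, swap_apply_left]
  refine ⟨x 0 - x 2, x 1 - x 2, ?_⟩
  have h1 : ∑ i, x i • u i = ∑ i, x i • u i - x 2 • ∑ i, u i := by rw [hu.sum, smul_zero, sub_zero]
  rw [h1, Finset.smul_sum, ← Finset.sum_sub_distrib]
  simp only [← sub_smul]
  rw [Fin.sum_univ_eight, hconst 3 2 (by decide) (by decide) (by decide) (by decide),
    hconst 4 2 (by decide) (by decide) (by decide) (by decide),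
    hconst 5 2 (by decide) (by decide) (by decide) (by decide),
    hconst 6 2 (by decide) (by decide) (by decide) (by decide),
    hconst 7 2 (by decide) (by decide) (by decide) (by decide)]
  simp

section Nine

open Cfsg.Agent.H637.SevenA8

end Nine

end Cfsg.Agent.H856.Sv
end

-- part: H856/Sv8
section
/-!
# `Sp₆(2)` in dimension 7: the entries are in the prime field
-/

set_option autoImplicit false
set_option linter.unusedSectionVars false

open scoped Pointwise

namespace Cfsg.Agent.H856.Sv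

open Equiv Cfsg.Agent.H637.JW

variable {F : Type*} [Field F] {V : Type*} [AddCommGroup V] [Module F V]

theorem prim_neg_one (h2 : (2 : F) ≠ 0) : IsPrimitiveRoot (-1 : F) 2 := by
  refine IsPrimitiveRoot.mk_of_lt _ (by norm_num) (by norm_num) fun l hl hl2 => ?_
  have h1 : l = 1 := by omega
  rw [h1, pow_one]
  intro h
  apply h2
  linear_combination -h

/-- a regular elementary abelian group of order 8 normalised by an element of order 7: in dimension 7 a fixed vector forces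
the trivial action -/
theorem E_fix (h7 : Module.finrank F V = 7) (h2 : (2 : F) ≠ 0) {e0 e1 e2 c : V ≃ₗ[F] V}
    (h00 : e0 * e0 = 1) (h11 : e1 * e1 = 1) (h22 : e2 * e2 = 1) (h01 : e0 * e1 = e1 * e0)
    (h02 : e0 * e2 = e2 * e0) (h12 : e1 * e2 = e2 * e1) (hc0 : c * e0 = e1 * c) (hc1 : c * e1 = e2 * c)
    (hc2 : c * e2 = e0 * e1 * c) {w : V} (hw : w ≠ 0) (hw0 : e0 w = w) (hw1 : e1 w = w) (hw2 : e2 w = w) :
    e0 = 1 := by
  have hfin : FiniteDimensional F V := Module.finite_of_finrank_pos (by rw [h7]; norm_num)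
  have ap : ∀ {a b : V ≃ₗ[F] V}, a = b → ∀ v, a v = b v := fun h v => by rw [h]
  have h00' : ∀ v, e0 (e0 v) = v := ap h00
  have h11' : ∀ v, e1 (e1 v) = v := ap h11
  have h22' : ∀ v, e2 (e2 v) = v := ap h22
  have h01' : ∀ v, e0 (e1 v) = e1 (e0 v) := ap h01
  have h02' : ∀ v, e0 (e2 v) = e2 (e0 v) := ap h02
  have h12' : ∀ v, e1 (e2 v) = e2 (e1 v) := ap h12
  have hc0' : ∀ v, c (e0 v) = e1 (c v) := ap hc0
  have hc1' : ∀ v, c (e1 v) = e2 (c v) := ap hc1
  have hc2' : ∀ v, c (e2 v) = e0 (e1 (c v)) := ap hc2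
  let f : Fin 3 → Module.End F V := ![(e0 : V →ₗ[F] V), (e1 : V →ₗ[F] V), (e2 : V →ₗ[F] V)]
  have hfc : ∀ j k, f j * f k = f k * f j := by
    intro j k
    fin_cases j <;> fin_cases k
    · rfl
    · exact LinearMap.ext h01'
    · exact LinearMap.ext h02'
    · exact LinearMap.ext fun v => (h01' v).symm
    · rfl
    · exact LinearMap.ext h12'
    · exact LinearMap.ext fun v => (h02' v).symm
    · exact LinearMap.ext fun v => (h12' v).symm
    · rfl
  have hf2 : ∀ k, f k ^ 2 = 1 := by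
    intro k
    rw [pow_two]
    fin_cases k
    · exact LinearMap.ext h00'
    · exact LinearMap.ext h11'
    · exact LinearMap.ext h22'
  have hind := indep_W (K := F) (by exact_mod_cast h2) (prim_neg_one h2) hfc hf2
  have hmem : ∀ (χ : Fin 3 → ZMod 2) (v : V), v ∈ W 2 (-1 : F) f χ ↔
      e0 v = (-1 : F) ^ (χ 0).val • v ∧ e1 v = (-1 : F) ^ (χ 1).val • v ∧ e2 v = (-1 : F) ^ (χ 2).val • v := by
    intro χ v
    rw [mem_W]
    constructor
    · intro h
      exact ⟨h 0, h 1, h 2⟩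
    · rintro ⟨a, b, d⟩ k
      fin_cases k
      · exact a
      · exact b
      · exact d
  -- the step
  have hstep : ∀ χ : Fin 3 → ZMod 2, W 2 (-1 : F) f χ ≠ ⊥ → W 2 (-1 : F) f ![χ 0 + χ 2, χ 0, χ 1] ≠ ⊥ := by
    intro χ h
    obtain ⟨v, hv, hv0⟩ := (Submodule.ne_bot_iff _).1 h
    rw [Submodule.ne_bot_iff]
    refine ⟨c v, ?_, fun h => hv0 (c.injective (by rw [h, map_zero]))⟩
    rw [hmem] at hv ⊢
    obtain ⟨a, b, d⟩ := hv
    have a' : e1 (c v) = (-1 : F) ^ (χ 0).val • c v := by rw [← hc0', a, map_smul]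
    have b' : e2 (c v) = (-1 : F) ^ (χ 1).val • c v := by rw [← hc1', b, map_smul]
    have d' : e0 (e1 (c v)) = (-1 : F) ^ (χ 2).val • c v := by rw [← hc2', d, map_smul]
    refine ⟨?_, a', b'⟩
    rw [a', map_smul] at d'
    have h3 : (-1 : F) ^ (χ 0).val * (-1 : F) ^ (χ 0).val = 1 := by
      rw [← mul_pow]; norm_num
    have h4 : e0 (c v) = ((-1 : F) ^ (χ 0).val * (-1 : F) ^ (χ 2).val) • c v := by
      rw [mul_smul, ← d', smul_smul, h3, one_smul]
    rw [h4]
    congr 1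
    show _ = (-1 : F) ^ (χ 0 + χ 2).val
    rw [pow_val_add (by norm_num)]
  -- the nontrivial characters form one orbit
  have hs' : ∀ χ χ' : Fin 3 → ZMod 2, ![χ 0 + χ 2, χ 0, χ 1] = χ' → W 2 (-1 : F) f χ ≠ ⊥ →
      W 2 (-1 : F) f χ' ≠ ⊥ := fun χ χ' h h1 => h ▸ hstep χ h1
  have s1 := hs' ![1, 0, 0] ![1, 1, 0] (by decide)
  have s2 := hs' ![1, 1, 0] ![1, 1, 1] (by decide)
  have s3 := hs' ![1, 1, 1] ![0, 1, 1] (by decide)
  have s4 := hs' ![0, 1, 1] ![1, 0, 1] (by decide)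
  have s5 := hs' ![1, 0, 1] ![0, 1, 0] (by decide)
  have s6 := hs' ![0, 1, 0] ![0, 0, 1] (by decide)
  have s7 := hs' ![0, 0, 1] ![1, 0, 0] (by decide)
  have hcase : ∀ χ : Fin 3 → ZMod 2, χ ≠ 0 → χ = ![1, 0, 0] ∨ χ = ![1, 1, 0] ∨ χ = ![1, 1, 1] ∨ χ = ![0, 1, 1] ∨
    χ = ![1, 0, 1] ∨ χ = ![0, 1, 0] ∨ χ = ![0, 0, 1] := by decide +kernel
  have horb : W 2 (-1 : F) f ![1, 0, 0] ≠ ⊥ → ∀ χ : Fin 3 → ZMod 2, χ ≠ 0 → W 2 (-1 : F) f χ ≠ ⊥ := by
    intro h1 χ hχ
    rcases hcase χ hχ with h | h | h | h | h | h | h <;> rw [h]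
    · exact h1
    · exact s1 h1
    · exact s2 (s1 h1)
    · exact s3 (s2 (s1 h1))
    · exact s4 (s3 (s2 (s1 h1)))
    · exact s5 (s4 (s3 (s2 (s1 h1))))
    · exact s6 (s5 (s4 (s3 (s2 (s1 h1)))))
  have horb' : ∀ χ : Fin 3 → ZMod 2, χ ≠ 0 → W 2 (-1 : F) f χ ≠ ⊥ → W 2 (-1 : F) f ![1, 0, 0] ≠ ⊥ := by
    intro χ hχ hW
    rcases hcase χ hχ with h | h | h | h | h | h | h <;> rw [h] at hW
    · exact hW
    · exact s7 (s6 (s5 (s4 (s3 (s2 hW)))))
    · exact s7 (s6 (s5 (s4 (s3 hW))))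
    · exact s7 (s6 (s5 (s4 hW)))
    · exact s7 (s6 (s5 hW))
    · exact s7 (s6 hW)
    · exact s7 hW
  have hw' : W 2 (-1 : F) f 0 ≠ ⊥ := by
    rw [Submodule.ne_bot_iff]
    refine ⟨w, ?_, hw⟩
    rw [hmem]
    simp [hw0, hw1, hw2]
  have hbot : ∀ χ : Fin 3 → ZMod 2, χ ≠ 0 → W 2 (-1 : F) f χ = ⊥ := by
    by_contra hne
    push Not at hne
    obtain ⟨χ, hχ, hW⟩ := hne
    have hall : ∀ χ : Fin 3 → ZMod 2, W 2 (-1 : F) f χ ≠ ⊥ := by
      intro χ'
      by_cases h : χ' = 0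
      · rw [h]; exact hw'
      · exact horb (horb' χ hχ hW) χ' h
    have h1 := sum_le_top hind
    have h3 : ∀ χ ∈ (Finset.univ : Finset (Fin 3 → ZMod 2)), 1 ≤ Module.finrank F (W 2 (-1 : F) f χ) := by
      intro χ _
      rw [Nat.one_le_iff_ne_zero]
      intro h
      exact hall χ (Submodule.finrank_eq_zero.1 h)
    have h4 := Finset.card_nsmul_le_sum _ _ _ h3
    rw [Finset.card_univ] at h4
    simp only [Fintype.card_fun, ZMod.card, Fintype.card_fin, smul_eq_mul] at h4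
    omega
  have hz : ∀ (χ : Fin 3 → ZMod 2), χ ≠ 0 → ∀ y, e0 y = (-1 : F) ^ (χ 0).val • y → e1 y = (-1 : F) ^ (χ 1).val • y →
      e2 y = (-1 : F) ^ (χ 2).val • y → y = 0 := by
    intro χ hχ y a b d
    have h1 : y ∈ W 2 (-1 : F) f χ := (hmem χ y).2 ⟨a, b, d⟩
    rw [hbot χ hχ] at h1
    exact h1
  have p0 : ∀ y : V, (-1 : F) ^ (0 : ZMod 2).val • y = y := fun y => by simp
  have p1 : ∀ y : V, (-1 : F) ^ (1 : ZMod 2).val • y = -y := fun y => by
    rw [show (1 : ZMod 2).val = 1 from rfl, pow_one, neg_smul, one_smul]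
  have half : ∀ y z z' : V, y + z = 0 → y - z = 0 → y = 0 := by
    intro y z _ h h'
    have h3 : (2 : F) • y = 0 := by
      rw [show (2 : F) • y = (y + z) + (y - z) by module, h, h', add_zero]
    exact (smul_eq_zero.1 h3).resolve_left h2
  have hz4 : ∀ z, e0 z = -z → e1 z = z → z = 0 := by
    intro z h0 h1
    refine half z (e2 z) 0 ?_ ?_
    · refine hz ![1, 0, 0] (by decide) _ ?_ ?_ ?_
      · refine Eq.trans ?_ (p1 _).symm
        rw [map_add, h02', h0, map_neg]; abel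
      · refine Eq.trans ?_ (p0 _).symm
        rw [map_add, h12', h1]
      · refine Eq.trans ?_ (p0 _).symm
        rw [map_add, h22', add_comm]
    · refine hz ![1, 0, 1] (by decide) _ ?_ ?_ ?_
      · refine Eq.trans ?_ (p1 _).symm
        rw [map_sub, h02', h0, map_neg]; abel
      · refine Eq.trans ?_ (p0 _).symm
        rw [map_sub, h12', h1]
      · refine Eq.trans ?_ (p1 _).symm
        rw [map_sub, h22', neg_sub]
  have hz5 : ∀ z, e0 z = -z → e1 z = -z → z = 0 := by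
    intro z h0 h1
    refine half z (e2 z) 0 ?_ ?_
    · refine hz ![1, 1, 0] (by decide) _ ?_ ?_ ?_
      · refine Eq.trans ?_ (p1 _).symm
        rw [map_add, h02', h0, map_neg]; abel
      · refine Eq.trans ?_ (p1 _).symm
        rw [map_add, h12', h1, map_neg]; abel
      · refine Eq.trans ?_ (p0 _).symm
        rw [map_add, h22', add_comm]
    · refine hz ![1, 1, 1] (by decide) _ ?_ ?_ ?_
      · refine Eq.trans ?_ (p1 _).symm
        rw [map_sub, h02', h0, map_neg]; abel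
      · refine Eq.trans ?_ (p1 _).symm
        rw [map_sub, h12', h1, map_neg]; abel
      · refine Eq.trans ?_ (p1 _).symm
        rw [map_sub, h22', neg_sub]
  have hz6 : ∀ z, e0 z = -z → z = 0 := by
    intro z h0
    refine half z (e1 z) 0 (hz4 _ ?_ ?_) (hz5 _ ?_ ?_)
    · rw [map_add, h01', h0, map_neg]; abel
    · rw [map_add, h11', add_comm]
    · rw [map_sub, h01', h0, map_neg]; abel
    · rw [map_sub, h11', neg_sub]
  apply LinearEquiv.ext
  intro v
  have h1 := hz6 (e0 v - v) (by rw [map_sub, h00', neg_sub])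
  rw [sub_eq_zero] at h1
  exact h1

/-- making elements of `A₈` -/
def mk8 (p : Perm (Fin 8)) (h : Perm.sign p = 1 := by decide) : alternatingGroup (Fin 8) :=
  ⟨p, Perm.mem_alternatingGroup.2 h⟩

def E0 : alternatingGroup (Fin 8) := mk8 (swap (0 : Fin 8) 1 * swap (2 : Fin 8) 3 * swap (4 : Fin 8) 5 * swap (6 : Fin 8) 7)
def E1 : alternatingGroup (Fin 8) := mk8 (swap (0 : Fin 8) 2 * swap (1 : Fin 8) 3 * swap (4 : Fin 8) 6 * swap (5 : Fin 8) 7)
def E2 : alternatingGroup (Fin 8) := mk8 (swap (0 : Fin 8) 4 * swap (1 : Fin 8) 5 * swap (2 : Fin 8) 6 * swap (3 : Fin 8) 7)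
def Ec : alternatingGroup (Fin 8) := mk8 (swap (1 : Fin 8) 2 * swap (2 : Fin 8) 4 * swap (4 : Fin 8) 3 * swap (3 : Fin 8) 6 * swap (6 : Fin 8) 7 * swap (7 : Fin 8) 5)

theorem E00 : E0 * E0 = 1 := by decide +kernel
theorem E11 : E1 * E1 = 1 := by decide +kernel
theorem E22 : E2 * E2 = 1 := by decide +kernel
theorem E01 : E0 * E1 = E1 * E0 := by decide +kernel
theorem E02 : E0 * E2 = E2 * E0 := by decide +kernel
theorem E12 : E1 * E2 = E2 * E1 := by decide +kernel
theorem Ec0 : Ec * E0 = E1 * Ec := by decide +kernel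
theorem Ec1 : Ec * E1 = E2 * Ec := by decide +kernel
theorem Ec2 : Ec * E2 = E0 * E1 * Ec := by decide +kernel
theorem E0_ne : E0 ≠ 1 := by decide +kernel

/-- `A₈` acting nontrivially in dimension 7 has no fixed vectors -/
theorem a8_no_fix (h7 : Module.finrank F V = 7) (h2 : (2 : F) ≠ 0) (τ : alternatingGroup (Fin 8) →* (V ≃ₗ[F] V))
    {w : V} (hw : w ≠ 0) (hfix : ∀ g, τ g w = w) : ∀ g, τ g = 1 := by
  have h1 : τ E0 = 1 := by
    refine E_fix h7 h2 (e0 := τ E0) (e1 := τ E1) (e2 := τ E2) (c := τ Ec) ?_ ?_ ?_ ?_ ?_ ?_ ?_ ?_ ?_ hw (hfix _)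
      (hfix _) (hfix _)
    · rw [← map_mul, E00, map_one]
    · rw [← map_mul, E11, map_one]
    · rw [← map_mul, E22, map_one]
    · rw [← map_mul, E01, map_mul]
    · rw [← map_mul, E02, map_mul]
    · rw [← map_mul, E12, map_mul]
    · rw [← map_mul, Ec0, map_mul]
    · rw [← map_mul, Ec1, map_mul]
    · rw [← map_mul, Ec2, map_mul, map_mul]
  have hs : IsSimpleGroup (alternatingGroup (Fin 8)) := alternatingGroup.isSimpleGroup (by simp)
  rcases (inferInstance : τ.ker.Normal).eq_bot_or_eq_top with h | h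
  · exfalso
    have h3 : E0 ∈ τ.ker := h1
    rw [h, Subgroup.mem_bot] at h3
    exact E0_ne h3
  · intro g
    have h3 : g ∈ τ.ker := by rw [h]; trivial
    exact h3

def A1 : alternatingGroup (Fin 8) := mk8 (swap (0 : Fin 8) 1 * swap (2 : Fin 8) 3)
def A2 : alternatingGroup (Fin 8) := mk8 (swap (0 : Fin 8) 2 * swap (1 : Fin 8) 3)
def C1 : alternatingGroup (Fin 8) := mk8 (swap (1 : Fin 8) 2 * swap (2 : Fin 8) 3)
def D1 : alternatingGroup (Fin 8) := mk8 (swap (4 : Fin 8) 5 * swap (5 : Fin 8) 6)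
def D2 : alternatingGroup (Fin 8) := mk8 (swap (5 : Fin 8) 6 * swap (6 : Fin 8) 7)

section act

variable {u : Fin 8 → V} (hu : Fr8 F u) {τ : alternatingGroup (Fin 8) →* (V ≃ₗ[F] V)}
  (hτ : ∀ (g : alternatingGroup (Fin 8)) i, τ g (u i) = u ((g : Perm (Fin 8)) i))

include hu hτ

theorem relg {x : Fin 8 → F} {g : alternatingGroup (Fin 8)} {s : F}
    (h : τ g (∑ i, x i • u i) = s • ∑ i, x i • u i) (i j : Fin 8) :
    x i - s * x ((g : Perm (Fin 8)) i) = x j - s * x ((g : Perm (Fin 8)) j) := by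
  rw [map_sum] at h
  simp only [map_smul, hτ] at h
  rw [Finset.smul_sum, ← Equiv.sum_comp (g : Perm (Fin 8)) (fun k => s • x k • u k), ← sub_eq_zero,
    ← Finset.sum_sub_distrib] at h
  have h1 : ∑ k, (x ((g : Perm (Fin 8))⁻¹ k) - s * x k) • u k = 0 := by
    rw [← Equiv.sum_comp (g : Perm (Fin 8)) (fun k => (x ((g : Perm (Fin 8))⁻¹ k) - s * x k) • u k), ← h]
    refine Finset.sum_congr rfl fun k _ => ?_
    rw [show (g : Perm (Fin 8))⁻¹ ((g : Perm (Fin 8)) k) = k from (g : Perm (Fin 8)).symm_apply_apply k, sub_smul,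
      smul_smul]
  have h3 := hu.rel _ h1 ((g : Perm (Fin 8)) i) ((g : Perm (Fin 8)) j)
  rw [show (g : Perm (Fin 8))⁻¹ ((g : Perm (Fin 8)) i) = i from (g : Perm (Fin 8)).symm_apply_apply i,
    show (g : Perm (Fin 8))⁻¹ ((g : Perm (Fin 8)) j) = j from (g : Perm (Fin 8)).symm_apply_apply j] at h3
  exact h3

variable (h7 : Module.finrank F V = 7)

include h7

theorem in_W1 {v : V} (h1 : τ A1 v = v) (h2 : τ A2 v = -v) (h3 : τ D1 v = v) (h4 : τ D2 v = v) :
    ∃ k : F, v = k • (u 0 + u 1 - u 2 - u 3) := by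
  obtain ⟨x, rfl⟩ := hu.exists_sum h7 v
  have r1 := relg hu hτ (s := 1) (g := A1) (by rw [one_smul]; exact h1)
  have r2 := relg hu hτ (s := -1) (g := A2) (by rw [neg_smul, one_smul]; exact h2)
  have r3 := relg hu hτ (s := 1) (g := D1) (by rw [one_smul]; exact h3)
  have r4 := relg hu hτ (s := 1) (g := D2) (by rw [one_smul]; exact h4)
  have q1 := r1 0 4
  have q2 := r1 2 4
  have q3 := r2 0 4
  have q4 := r3 4 0
  have q5 := r3 5 0
  have q6 := r4 6 0
  rw [show (A1 : Perm (Fin 8)) 0 = 1 by decide, show (A1 : Perm (Fin 8)) 4 = 4 by decide] at q1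
  rw [show (A1 : Perm (Fin 8)) 2 = 3 by decide, show (A1 : Perm (Fin 8)) 4 = 4 by decide] at q2
  rw [show (A2 : Perm (Fin 8)) 0 = 2 by decide, show (A2 : Perm (Fin 8)) 4 = 4 by decide] at q3
  rw [show (D1 : Perm (Fin 8)) 4 = 5 by decide, show (D1 : Perm (Fin 8)) 0 = 0 by decide] at q4
  rw [show (D1 : Perm (Fin 8)) 5 = 6 by decide, show (D1 : Perm (Fin 8)) 0 = 0 by decide] at q5
  rw [show (D2 : Perm (Fin 8)) 6 = 7 by decide, show (D2 : Perm (Fin 8)) 0 = 0 by decide] at q6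
  have e1 : x 1 = x 0 := by linear_combination -q1
  have e3 : x 3 = x 2 := by linear_combination -q2
  have e2 : x 2 = 2 * x 4 - x 0 := by linear_combination q3
  have e5 : x 5 = x 4 := by linear_combination -q4
  have e6 : x 6 = x 4 := by linear_combination -q4 - q5
  have e7 : x 7 = x 4 := by linear_combination -q4 - q5 - q6
  have hs := hu.sum
  rw [Fin.sum_univ_eight] at hs ⊢
  refine ⟨x 0 - x 4, ?_⟩
  have h9 : u 7 = -(u 0 + u 1 + u 2 + u 3 + u 4 + u 5 + u 6) := by
    rw [eq_neg_iff_add_eq_zero, add_comm]; exact hs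
  rw [e7, e6, e5, e3, e2, e1, h9]
  module

theorem in_W0 {v : V} (h1 : τ A1 v = v) (h2 : τ A2 v = v) (h3 : τ D1 v = v) (h4 : τ D2 v = v) :
    ∃ k : F, v = k • (u 0 + u 1 + u 2 + u 3) := by
  obtain ⟨x, rfl⟩ := hu.exists_sum h7 v
  have r1 := relg hu hτ (s := 1) (g := A1) (by rw [one_smul]; exact h1)
  have r2 := relg hu hτ (s := 1) (g := A2) (by rw [one_smul]; exact h2)
  have r3 := relg hu hτ (s := 1) (g := D1) (by rw [one_smul]; exact h3)
  have r4 := relg hu hτ (s := 1) (g := D2) (by rw [one_smul]; exact h4)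
  have q1 := r1 0 4
  have q2 := r1 2 4
  have q3 := r2 0 4
  have q4 := r3 4 0
  have q5 := r3 5 0
  have q6 := r4 6 0
  rw [show (A1 : Perm (Fin 8)) 0 = 1 by decide, show (A1 : Perm (Fin 8)) 4 = 4 by decide] at q1
  rw [show (A1 : Perm (Fin 8)) 2 = 3 by decide, show (A1 : Perm (Fin 8)) 4 = 4 by decide] at q2
  rw [show (A2 : Perm (Fin 8)) 0 = 2 by decide, show (A2 : Perm (Fin 8)) 4 = 4 by decide] at q3
  rw [show (D1 : Perm (Fin 8)) 4 = 5 by decide, show (D1 : Perm (Fin 8)) 0 = 0 by decide] at q4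
  rw [show (D1 : Perm (Fin 8)) 5 = 6 by decide, show (D1 : Perm (Fin 8)) 0 = 0 by decide] at q5
  rw [show (D2 : Perm (Fin 8)) 6 = 7 by decide, show (D2 : Perm (Fin 8)) 0 = 0 by decide] at q6
  have e1 : x 1 = x 0 := by linear_combination -q1
  have e3 : x 3 = x 2 := by linear_combination -q2
  have e2 : x 2 = x 0 := by linear_combination -q3
  have e5 : x 5 = x 4 := by linear_combination -q4
  have e6 : x 6 = x 4 := by linear_combination -q4 - q5
  have e7 : x 7 = x 4 := by linear_combination -q4 - q5 - q6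
  have hs := hu.sum
  rw [Fin.sum_univ_eight] at hs ⊢
  refine ⟨x 0 - x 4, ?_⟩
  have h9 : u 7 = -(u 0 + u 1 + u 2 + u 3 + u 4 + u 5 + u 6) := by
    rw [eq_neg_iff_add_eq_zero, add_comm]; exact hs
  rw [e7, e6, e5, e3, e2, e1, h9]
  module

end act

end Cfsg.Agent.H856.Sv
end

private theorem dce_d956413fc8ba : _root_.True := by
  try have : _root_.True := by simp only [_root_.Cfsg.Agent.H856.Sv.B4.eq_1]
  try have : _root_.True := by simp only [_root_.Cfsg.Agent.H856.SpS.Lp.eq_1]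
  try have : _root_.True := by simp only [_root_.Cfsg.Agent.H856.SpS.b6.eq_1]
  try have : _root_.True := by simp only [_root_.Cfsg.Agent.H856.SpS.fm.eq_1]
  exact _root_.True.intro
end

-- part: H179/G2Std
section
set_option linter.all false
open scoped Cfsg.Agent.FastGrp

/-!
# The standard alternating 3-form on `F^7` and its stabiliser

Coordinates: `0` is the vector `n`, `1, 2, 3` are `e₁, e₂, e₃` and `4, 5, 6` are `f₁, f₂, f₃`;
`F0 = ∑ n eᵢ fᵢ + e₁ e₂ e₃ - f₁ f₂ f₃`.
-/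

namespace Cfsg.Agent.H179.G2

open scoped Matrix

variable {F : Type*} [Field F]

/-- the 3 by 3 minor with rows `i j k` of the three vectors -/
def d3 (i j k : Fin 7) (x y z : Fin 7 → F) : F :=
  x i * (y j * z k - y k * z j) - x j * (y i * z k - y k * z i) + x k * (y i * z j - y j * z i)

/-- the standard alternating 3-form on `F^7` -/
def F0 (x y z : Fin 7 → F) : F :=
  d3 0 1 4 x y z + d3 0 2 5 x y z + d3 0 3 6 x y z + d3 1 2 3 x y z - d3 4 5 6 x y z

/-- the stabiliser of the standard 3-form in `SL₇(F)` -/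
def M0 (F : Type*) [Field F] : Subgroup (Matrix.GeneralLinearGroup (Fin 7) F) where
  carrier := {g | (g : Matrix (Fin 7) (Fin 7) F).det = 1 ∧
    ∀ x y z : Fin 7 → F, F0 ((g : Matrix (Fin 7) (Fin 7) F) *ᵥ x)
      ((g : Matrix (Fin 7) (Fin 7) F) *ᵥ y) ((g : Matrix (Fin 7) (Fin 7) F) *ᵥ z) = F0 x y z}
  mul_mem' {g h} hg hh := by
    refine ⟨by rw [Units.val_mul, Matrix.det_mul, hg.1, hh.1, one_mul], fun x y z => ?_⟩
    rw [Units.val_mul, ← Matrix.mulVec_mulVec, ← Matrix.mulVec_mulVec, ← Matrix.mulVec_mulVec,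
      hg.2, hh.2]
  one_mem' := ⟨by simp, fun x y z => by simp⟩
  inv_mem' {g} hg := by
    have hgi : (g : Matrix (Fin 7) (Fin 7) F) * (g⁻¹ : Matrix.GeneralLinearGroup (Fin 7) F) = 1 := by
      rw [← Units.val_mul, mul_inv_cancel, Units.val_one]
    refine ⟨?_, fun x y z => ?_⟩
    · have := congrArg Matrix.det hgi
      rw [Matrix.det_mul, hg.1, one_mul, Matrix.det_one] at this
      exact this
    · have := hg.2 (((g⁻¹ : Matrix.GeneralLinearGroup (Fin 7) F) : Matrix _ _ F) *ᵥ x)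
        (((g⁻¹ : Matrix.GeneralLinearGroup (Fin 7) F) : Matrix _ _ F) *ᵥ y)
        (((g⁻¹ : Matrix.GeneralLinearGroup (Fin 7) F) : Matrix _ _ F) *ᵥ z)
      rw [Matrix.mulVec_mulVec, Matrix.mulVec_mulVec, Matrix.mulVec_mulVec, hgi,
        Matrix.one_mulVec, Matrix.one_mulVec, Matrix.one_mulVec] at this
      exact this.symm

end Cfsg.Agent.H179.G2
end
end
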